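import Mathlib
import Cfsg.Agent.Lib.Small.Generation.ThreeUnipotent

/-!
The Jordan block `J`, regularity of unipotent matrices of Hessenberg shape, and the criterion
`top_of_highest`: a subgroup of `SL_n(F)` containing `J` and all transvections
`1 + t • e_L e_0ᵀ` is everything.
-/

set_option autoImplicit false
set_option linter.unusedSectionVars false

namespace Cfsg.Agent.Small.Generation.TwoUnip

open Matrix Generation

section Shift

variable {R : Type*} [CommRing R] {n : ℕ}

/-- Coordinates of a vector, extended by zero. -/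
def ev (x : Fin n → R) (k : ℕ) : R := if h : k < n then x ⟨k, h⟩ else 0

theorem ev_lt (x : Fin n → R) {k : ℕ} (h : k < n) : ev x k = x ⟨k, h⟩ := dif_pos h

theorem ev_ge (x : Fin n → R) {k : ℕ} (h : n ≤ k) : ev x k = 0 := dif_neg (by omega)

/-- The Jordan block with eigenvalue one. -/
def jm (R : Type*) [CommRing R] (n : ℕ) : Matrix (Fin n) (Fin n) R :=
  Matrix.of fun i j => if (j : ℕ) = i then 1 else if (j : ℕ) = i + 1 then 1 else 0

theorem jm_mulVec (x : Fin n → R) (i : Fin n) : (jm R n *ᵥ x) i = x i + ev x ((i : ℕ) + 1) := by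
  classical
  have h : ∀ j : Fin n, jm R n i j * x j =
      (if j = i then x j else 0) + if (j : ℕ) = i + 1 then x j else 0 := fun j => by
    simp only [jm, Matrix.of_apply, Fin.ext_iff]
    split_ifs <;> first | (exfalso; omega) | simp
  rw [Matrix.mulVec, dotProduct, Finset.sum_congr rfl fun j _ => h j, Finset.sum_add_distrib]
  congr 1
  · simp
  · by_cases hi : (i : ℕ) + 1 < n
    · rw [ev_lt x hi, Finset.sum_eq_single (⟨i + 1, hi⟩ : Fin n)]
      · simp
      · intro b _ hb
        rw [if_neg fun h' => hb (Fin.ext h')]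
      · simp
    · rw [ev_ge x (by omega)]
      exact Finset.sum_eq_zero fun b _ => if_neg (by omega)

theorem vecMul_jm (x : Fin n → R) (j : Fin n) :
    (x ᵥ* jm R n) j = x j + if 0 < (j : ℕ) then ev x ((j : ℕ) - 1) else 0 := by
  classical
  have h : ∀ i : Fin n, x i * jm R n i j =
      (if i = j then x i else 0) + if (i : ℕ) + 1 = j then x i else 0 := fun i => by
    simp only [jm, Matrix.of_apply, Fin.ext_iff]
    split_ifs <;> first | (exfalso; omega) | simp
  rw [Matrix.vecMul, dotProduct, Finset.sum_congr rfl fun i _ => h i, Finset.sum_add_distrib]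
  congr 1
  · simp
  · by_cases hj : 0 < (j : ℕ)
    · rw [if_pos hj, ev_lt x (by omega), Finset.sum_eq_single (⟨(j : ℕ) - 1, by omega⟩ : Fin n)]
      · simp only
        rw [if_pos (by omega)]
      · intro b _ hb
        rw [if_neg fun h' => hb (Fin.ext (by simp only; omega))]
      · simp
    · rw [if_neg hj]
      exact Finset.sum_eq_zero fun b _ => if_neg (by omega)

theorem jm_det : (jm R n).det = 1 := by
  rw [Matrix.det_of_isUpperTriangular]
  · exact Finset.prod_eq_one fun i _ => by simp [jm]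
  · intro i j hij
    simp only [id_eq, Fin.lt_def] at hij
    simp only [jm, Matrix.of_apply]
    rw [if_neg (by omega), if_neg (by omega)]

theorem jm_map {S : Type*} [CommRing S] (f : R →+* S) : (jm R n).map f = jm S n := by
  ext i j
  simp only [jm, Matrix.map_apply, Matrix.of_apply]
  split_ifs <;> simp

end Shift

section SL

variable {F : Type*} [Field F] {n : ℕ}

/-- The Jordan block in `SL_n`. -/
def J : Matrix.SpecialLinearGroup (Fin n) F := ⟨jm F n, jm_det⟩

/-- The transposed Jordan block in `SL_n`. -/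
def Jt : Matrix.SpecialLinearGroup (Fin n) F :=
  ⟨(jm F n)ᵀ, by rw [Matrix.det_transpose, jm_det]⟩

theorem J_coe : (J (F := F) (n := n)).1 = jm F n := rfl

theorem Jt_coe : (Jt (F := F) (n := n)).1 = (jm F n)ᵀ := rfl

theorem Jt_mulVec (x : Fin n → F) (i : Fin n) :
    ((Jt (F := F) (n := n)).1 *ᵥ x) i = x i + if 0 < (i : ℕ) then ev x ((i : ℕ) - 1) else 0 := by
  rw [Jt_coe, Matrix.mulVec_transpose, vecMul_jm]

theorem vecMul_Jt (x : Fin n → F) (i : Fin n) :
    (x ᵥ* (Jt (F := F) (n := n)).1) i = x i + ev x ((i : ℕ) + 1) := by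
  rw [Jt_coe, Matrix.vecMul_transpose, jm_mulVec]

theorem mulVec_inv (g : Matrix.SpecialLinearGroup (Fin n) F) {x y : Fin n → F}
    (h : g.1 *ᵥ x = y) : (g⁻¹).1 *ᵥ y = x := by
  rw [← h, Matrix.mulVec_mulVec, ← Matrix.SpecialLinearGroup.coe_mul, inv_mul_cancel,
    Matrix.SpecialLinearGroup.coe_one, Matrix.one_mulVec]

theorem vecMul_inv (g : Matrix.SpecialLinearGroup (Fin n) F) {x y : Fin n → F}
    (h : x ᵥ* g.1 = y) : y ᵥ* (g⁻¹).1 = x := by
  rw [← h, Matrix.vecMul_vecMul, ← Matrix.SpecialLinearGroup.coe_mul, mul_inv_cancel,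
    Matrix.SpecialLinearGroup.coe_one, Matrix.vecMul_one]

/-- Powers of a matrix of Hessenberg shape. -/
theorem hessenberg_pow {A : Matrix (Fin n) (Fin n) F}
    (h0 : ∀ i j : Fin n, (i : ℕ) + 1 < j → A i j = 0)
    (h1 : ∀ i j : Fin n, (j : ℕ) = i + 1 → A i j ≠ 0) (hn : 0 < n) :
    ∀ k : ℕ, (∀ j : Fin n, k < j → (A ^ k) ⟨0, hn⟩ j = 0) ∧
      ∀ j : Fin n, (j : ℕ) = k → (A ^ k) ⟨0, hn⟩ j ≠ 0 := by
  intro k
  induction k with
  | zero =>
    refine ⟨fun j hj => ?_, fun j hj => ?_⟩
    · rw [pow_zero, Matrix.one_apply_ne (Fin.ne_of_val_ne (by simp only; omega))]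
    · rw [pow_zero, show j = ⟨0, hn⟩ from Fin.ext hj, Matrix.one_apply_eq]
      exact one_ne_zero
  | succ k ih =>
    obtain ⟨ih0, ih1⟩ := ih
    refine ⟨fun j hj => ?_, fun j hj => ?_⟩
    · rw [pow_succ, Matrix.mul_apply]
      refine Finset.sum_eq_zero fun i _ => ?_
      rcases le_or_gt (i : ℕ) k with h | h
      · rw [h0 i j (by omega), mul_zero]
      · rw [ih0 i h, zero_mul]
    · rw [pow_succ, Matrix.mul_apply, Finset.sum_eq_single (⟨k, by omega⟩ : Fin n)]
      · exact mul_ne_zero (ih1 _ rfl) (h1 _ _ hj)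
      · intro i _ hi
        rcases lt_or_ge k (i : ℕ) with h | h
        · rw [ih0 i h, zero_mul]
        · have : (i : ℕ) < k := lt_of_le_of_ne h fun h' => hi (Fin.ext h')
          rw [h0 i j (by omega), mul_zero]
      · simp

theorem pow_ne_zero_of_hessenberg {A : Matrix (Fin n) (Fin n) F}
    (h0 : ∀ i j : Fin n, (i : ℕ) + 1 < j → A i j = 0)
    (h1 : ∀ i j : Fin n, (j : ℕ) = i + 1 → A i j ≠ 0) (hn : 0 < n) : A ^ (n - 1) ≠ 0 := by
  intro h
  exact (hessenberg_pow h0 h1 hn (n - 1)).2 ⟨n - 1, by omega⟩ rfl (by rw [h]; rfl)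

/-- A matrix with characteristic polynomial `(X - 1) ^ n` is unipotent. -/
theorem isNilpotent_sub_one {M : Matrix (Fin n) (Fin n) F}
    (h : M.charpoly = (Polynomial.X - 1) ^ n) : IsNilpotent (M - 1) := by
  refine ⟨n, ?_⟩
  have := Matrix.aeval_self_charpoly M
  rw [h, map_pow, map_sub, Polynomial.aeval_X, map_one] at this
  exact this

theorem J_regular (hn : 2 ≤ n) :
    IsNilpotent ((J (F := F) (n := n)).1 - 1) ∧ ((J (F := F) (n := n)).1 - 1) ^ (n - 1) ≠ 0 := by
  refine ⟨isNilpotent_sub_one ?_, pow_ne_zero_of_hessenberg ?_ ?_ (by omega)⟩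
  · rw [Matrix.charpoly_of_isUpperTriangular]
    · rw [Finset.prod_congr rfl fun i (_ : i ∈ Finset.univ) =>
        (show (Polynomial.X : Polynomial F) - Polynomial.C ((J (F := F) (n := n)).1 i i) =
          Polynomial.X - 1 by simp [J_coe, jm]), Finset.prod_const, Finset.card_univ, Fintype.card_fin]
    · intro i j hij
      simp only [id_eq, Fin.lt_def] at hij
      simp only [J_coe, jm, Matrix.of_apply]
      rw [if_neg (by omega), if_neg (by omega)]
  · intro i j hij
    rw [Matrix.sub_apply, Matrix.one_apply_ne (Fin.ne_of_val_ne (by omega))]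
    simp only [J_coe, jm, Matrix.of_apply]
    rw [if_neg (by omega), if_neg (by omega), sub_zero]
  · intro i j hij
    rw [Matrix.sub_apply, Matrix.one_apply_ne (Fin.ne_of_val_ne (by omega))]
    simp only [J_coe, jm, Matrix.of_apply]
    rw [if_neg (by omega), if_pos hij, sub_zero]
    exact one_ne_zero

/-- The index `L = n - 1`. -/
def last (hn : 0 < n) : Fin n := ⟨n - 1, by omega⟩

theorem J_single (j : Fin n) :
    (J (F := F) (n := n)).1 *ᵥ (Pi.single j 1 : Fin n → F) =
      Pi.single j 1 + if h : 0 < (j : ℕ) then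
        (Pi.single (⟨(j : ℕ) - 1, by omega⟩ : Fin n) 1 : Fin n → F) else 0 := by
  funext i
  rw [J_coe, jm_mulVec, Pi.add_apply]
  congr 1
  split_ifs with hj
  · by_cases hi : (i : ℕ) + 1 < n
    · rw [ev_lt _ hi]
      simp only [Pi.single_apply, Fin.ext_iff]
      split_ifs <;> first | rfl | (exfalso; omega)
    · rw [ev_ge _ (by omega), Pi.single_eq_of_ne (Fin.ne_of_val_ne (by simp only; omega))]
  · by_cases hi : (i : ℕ) + 1 < n
    · rw [ev_lt _ hi, Pi.single_eq_of_ne (Fin.ne_of_val_ne (by simp only; omega))]; rfl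
    · rw [ev_ge _ (by omega)]; rfl

/-- The vector `J⁻¹ e_L`. -/
def cvec (F : Type*) [Field F] (n : ℕ) : Fin n → F := fun i => (-1) ^ (n - 1 - (i : ℕ))

theorem J_inv_last (hn : 0 < n) :
    (J (F := F) (n := n))⁻¹.1 *ᵥ (Pi.single (last hn) 1 : Fin n → F) = cvec F n := by
  refine mulVec_inv _ ?_
  funext i
  rw [J_coe, jm_mulVec]
  by_cases hi : (i : ℕ) + 1 < n
  · rw [ev_lt _ hi, Pi.single_eq_of_ne (Fin.ne_of_val_ne (by simp [last]; omega))]
    simp only [cvec]
    rw [show n - 1 - (i : ℕ) = (n - 1 - ((i : ℕ) + 1)) + 1 by omega, pow_succ]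
    ring
  · rw [ev_ge _ (by omega), show i = last hn from Fin.ext (by simp [last]; omega)]
    simp [cvec, last]

variable {G : Subgroup (Matrix.SpecialLinearGroup (Fin n) F)}

/-- Move a scalar from the centre to the axis. -/
theorem In.right {k : F} {a φ : Fin n → F} (_hk : k ≠ 0) (h : In G (k • a) φ) :
    In G a (k • φ) := by
  obtain ⟨h1, g, hg, hga⟩ := h
  refine ⟨?_, g, hg, by rw [hga, tv_smul]⟩
  rw [smul_dotProduct]; rwa [dotProduct_smul] at h1

/-- Move a scalar from the axis to the centre. -/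
theorem In.left {k : F} {a φ : Fin n → F} (_hk : k ≠ 0) (h : In G a (k • φ)) :
    In G (k • a) φ := by
  obtain ⟨h1, g, hg, hga⟩ := h
  refine ⟨?_, g, hg, by rw [hga, tv_smul]⟩
  rw [smul_dotProduct] at h1; rwa [dotProduct_smul]

theorem In.add_right {a φ ψ : Fin n → F} (h1 : In G a φ) (h2 : In G a ψ) :
    In G a (φ + ψ) := by
  obtain ⟨d1, g, hg, hga⟩ := h1
  obtain ⟨d2, g', hg', hga'⟩ := h2
  refine ⟨by rw [add_dotProduct, d1, d2, add_zero], g * g', mul_mem hg hg', ?_⟩
  rw [Matrix.SpecialLinearGroup.coe_mul, hga, hga']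
  apply ext_mulVec
  intro x
  rw [← Matrix.mulVec_mulVec, tv_mulVec, tv_mulVec, tv_mulVec, dotProduct_add, dotProduct_smul, d1,
    smul_zero, add_zero, add_dotProduct]
  module

/-- All transvections with centre `c` lie in `G`. -/
def FullC (G : Subgroup (Matrix.SpecialLinearGroup (Fin n) F)) (c : Fin n → F) : Prop :=
  ∀ φ, φ ⬝ᵥ c = 0 → In G c φ

theorem FullC.smul {c : Fin n → F} (h : FullC G c) (k : F) : FullC G (k • c) := by
  intro φ hφ
  rcases eq_or_ne k 0 with rfl | hk
  · rw [zero_smul]; exact In.zero_left φ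
  refine TwoUnip.In.left hk (h _ ?_)
  rw [smul_dotProduct]; rwa [dotProduct_smul] at hφ

theorem FullC.conj {c : Fin n → F} (h : FullC G c) {g : Matrix.SpecialLinearGroup (Fin n) F}
    (hg : g ∈ G) : FullC G (g.1 *ᵥ c) := by
  intro φ hφ
  rw [Matrix.dotProduct_mulVec] at hφ
  have h1 := (h _ hφ).conj hg
  rwa [Matrix.vecMul_vecMul, ← Matrix.SpecialLinearGroup.coe_mul, mul_inv_cancel,
    Matrix.SpecialLinearGroup.coe_one, Matrix.vecMul_one] at h1

theorem FullC.add {c d : Fin n → F} (hc : FullC G c) (hd : FullC G d) : FullC G (c + d) := by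
  by_cases h : ∀ χ, χ ⬝ᵥ d = 0 → χ ⬝ᵥ c = 0
  · by_cases h0 : d = 0
    · rw [h0, add_zero]; exact hc
    obtain ⟨j, hj⟩ : ∃ j, d j ≠ 0 := Function.ne_iff.mp h0
    have : c = (c j / d j) • d := by
      funext i
      have := h (Pi.single i 1 - (d i / d j) • Pi.single j 1) (by
        rw [sub_dotProduct, smul_dotProduct, single_dotProduct, single_dotProduct]
        simp only [one_mul, smul_eq_mul]
        field_simp
        ring)
      rw [sub_dotProduct, smul_dotProduct, single_dotProduct, single_dotProduct] at this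
      simp only [one_mul, smul_eq_mul, sub_eq_zero] at this
      rw [Pi.smul_apply, smul_eq_mul, this]
      ring
    have h2 : c + d = (c j / d j + 1) • d := by rw [add_smul, one_smul, ← this]
    rw [h2]; exact hd.smul _
  · push Not at h
    obtain ⟨χ, hχ, hχc⟩ := h
    have hχ' : ((χ ⬝ᵥ c)⁻¹ • χ) ⬝ᵥ d = 0 := by rw [smul_dotProduct, hχ, smul_zero]
    obtain ⟨-, g, hg, hga⟩ := hd _ hχ'
    have h2 := hc.conj hg
    rwa [hga, tv_mulVec, smul_dotProduct, smul_eq_mul, inv_mul_cancel₀ hχc, one_smul] at h2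

/-- A subgroup containing `J` and all highest-weight transvections is the whole group. -/
theorem top_of_highest (hn : 3 ≤ n) (hJ : J ∈ G)
    (hx : ∀ t : F, In G (t • Pi.single (last (by omega : 0 < n)) 1)
      (Pi.single (⟨0, by omega⟩ : Fin n) 1)) : G = ⊤ := by
  classical
  set L := last (by omega : 0 < n) with hL
  set i0 : Fin n := ⟨0, by omega⟩
  set eL : Fin n → F := Pi.single L 1 with heL
  set φ : Fin n → F := Pi.single i0 1 with hφ
  have hLv : (L : ℕ) = n - 1 := rfl
  -- the axes `φ J ^ k`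
  let ψ : ℕ → Fin n → F := fun k => φ ᵥ* (jm F n) ^ k
  have hψ : ∀ k : ℕ, (∀ j : Fin n, k < (j : ℕ) → ψ k j = 0) ∧ ∀ j : Fin n, (j : ℕ) = k → ψ k j = 1 := by
    intro k
    induction k with
    | zero =>
      refine ⟨fun j hj => ?_, fun j hj => ?_⟩
      · have : i0 ≠ j := Fin.ne_of_val_ne (by simp only [i0]; omega)
        simp [ψ, φ, this]
      · rw [show j = i0 from Fin.ext hj]; simp [ψ, φ]
    | succ k ih =>
      have e : ψ (k + 1) = ψ k ᵥ* jm F n := by simp [ψ, pow_succ, Matrix.vecMul_vecMul]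
      refine ⟨fun j hj => ?_, fun j hj => ?_⟩
      · rw [e, vecMul_jm, if_pos (by omega), ev_lt _ (by omega), ih.1 j (by omega),
          ih.1 _ (by simp only; omega), add_zero]
      · rw [e, vecMul_jm, if_pos (by omega), ev_lt _ (by omega), ih.1 j (by omega),
          ih.2 _ (by simp only; omega), zero_add]
  have hσ : φ ⬝ᵥ cvec F n ≠ 0 := by simp [φ, cvec]
  have hall : ∀ k, k < n - 1 → ∀ t : F, In G (t • eL) (ψ k) := by
    intro k
    induction k with
    | zero => intro _ t; simpa [ψ] using hx t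
    | succ k ih =>
      intro hk t
      have h1 := (ih (by omega) 1).conj (inv_mem hJ)
      rw [one_smul, inv_inv, heL, hL, J_inv_last, J_coe] at h1
      change In G (cvec F n) (ψ k ᵥ* jm F n) at h1
      rw [show ψ k ᵥ* jm F n = ψ (k + 1) by simp [ψ, pow_succ, Matrix.vecMul_vecMul]] at h1
      have h2 := h1.comm (hx (t / (φ ⬝ᵥ cvec F n))) (by
        rw [dotProduct_smul, dotProduct_single, (hψ (k + 1)).1 L (by omega)]; simp)
      rw [smul_smul, mul_div_cancel₀ _ hσ] at h2
      exact h2
  have hsupp : ∀ k, k ≤ n - 1 → ∀ χ : Fin n → F, (∀ j : Fin n, k ≤ (j : ℕ) → χ j = 0) →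
      In G eL χ := by
    intro k
    induction k with
    | zero =>
      intro _ χ hχ
      rw [show χ = 0 from funext fun j => hχ j (Nat.zero_le _)]
      exact In.zero_right _
    | succ k ih =>
      intro hk χ hχ
      let jk : Fin n := ⟨k, by omega⟩
      have h1 : In G eL (χ jk • ψ k) := by
        rcases eq_or_ne (χ jk) 0 with h | h
        · rw [h, zero_smul]; exact In.zero_right _
        · exact TwoUnip.In.right h (hall k (by omega) _)
      have h2 := ih (by omega) (χ - χ jk • ψ k) fun j hj => by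
        rw [Pi.sub_apply, Pi.smul_apply, smul_eq_mul]
        rcases Nat.eq_or_lt_of_le hj with h | h
        · rw [(hψ k).2 j h.symm, mul_one, show j = jk from Fin.ext h.symm, sub_self]
        · rw [(hψ k).1 j h, hχ j h, mul_zero, sub_zero]
      have := TwoUnip.In.add_right h1 h2
      rwa [add_sub_cancel] at this
  have hfull : FullC G eL := fun χ hχ => by
    rw [heL, dotProduct_single, mul_one] at hχ
    refine hsupp (n - 1) le_rfl χ fun j hj => ?_
    rw [show j = L from Fin.ext (by omega)]; exact hχ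
  have hfull' : ∀ d : ℕ, ∀ hd : d < n,
      FullC G (Pi.single (⟨n - 1 - d, by omega⟩ : Fin n) 1 : Fin n → F) := by
    intro d
    induction d with
    | zero => intro _; exact hfull
    | succ d ih =>
      intro hd
      have h1 := ((ih (by omega)).conj hJ).add ((ih (by omega)).smul (-1))
      rw [J_single, dif_pos (by simp only; omega), neg_one_smul, add_assoc, add_comm (Pi.single _ _ : Fin n → F) (-_),
        ← add_assoc, add_neg_cancel, zero_add] at h1
      convert h1 using 3
      simp only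
      omega
  have : Nontrivial (Fin n) := Fin.nontrivial_iff_two_le.mpr (by omega)
  rw [eq_top_iff, ← Classical.sl_closure_transvections, Subgroup.closure_le]
  rintro g ⟨i, j, hij, t, rfl⟩
  have hi := hfull' (n - 1 - (i : ℕ)) (by omega)
  rw [show (⟨n - 1 - (n - 1 - (i : ℕ)), _⟩ : Fin n) = i from Fin.ext (by simp only; omega)] at hi
  obtain ⟨-, g, hg, hga⟩ := hi (t • Pi.single j 1) (by simp [hij])
  have : g = Matrix.SpecialLinearGroup.transvection hij t := by
    apply Subtype.ext
    rw [hga, Matrix.SpecialLinearGroup.transvection_coe]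
    apply ext_mulVec
    intro x
    rw [tv_mulVec]
    simp [Matrix.add_mulVec, Matrix.single_mulVec]
    funext k
    rcases eq_or_ne k i with rfl | hk
    · simp
    · simp [hk]
  rwa [← this]

end SL

end Cfsg.Agent.Small.Generation.TwoUnip
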