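import Mathlib
import Cfsg.Agent.Lib.Small.Generation.TwoUnipotent.Jordan

/-!
For `n ≥ 5`, the commutator of the two conjugates `(J T⁻¹)·C` and `(J⁻³ T)·C` of
`C = J⁻¹ T J T⁻¹` (`T` the transposed Jordan block) is a nontrivial transvection with centre `e_L`.
-/

set_option autoImplicit false
set_option linter.unusedSectionVars false

namespace Cfsg.Agent.Small.Generation.TwoUnip

open Matrix Generation

variable {F : Type*} [Field F] {n : ℕ}

/-- The alternating vector. -/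
def alt (F : Type*) [Field F] (n : ℕ) : Fin n → F := fun i => (-1) ^ (i : ℕ)

/-- The unit vector at position `k`. -/
def ee (F : Type*) [Field F] (n k : ℕ) : Fin n → F := fun i => if (i : ℕ) = k then 1 else 0

theorem single_eq_ee (k : Fin n) : (Pi.single k 1 : Fin n → F) = ee F n k := by
  funext i; simp only [Pi.single_apply, ee, Fin.ext_iff]

theorem ee_dot {k : ℕ} (hk : k < n) (x : Fin n → F) : ee F n k ⬝ᵥ x = x ⟨k, hk⟩ := by
  rw [← single_eq_ee (⟨k, hk⟩ : Fin n), single_dotProduct, one_mul]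

theorem dot_ee {k : ℕ} (hk : k < n) (x : Fin n → F) : x ⬝ᵥ ee F n k = x ⟨k, hk⟩ := by
  rw [dotProduct_comm, ee_dot hk]

theorem ev_ee (m k : ℕ) (hm : m < n) : ev (ee F n k) m = if m = k then 1 else 0 := by
  rw [ev_lt _ hm]; rfl

theorem ee_vecMul_jm {k : ℕ} : ee F n k ᵥ* jm F n = ee F n k + ee F n (k + 1) := by
  funext j
  rw [vecMul_jm, Pi.add_apply]
  congr 1
  simp only [ee]
  split_ifs with h1 h2 <;> first
    | (rw [ev_ee _ _ (by omega)]; split_ifs <;> first | rfl | (exfalso; omega))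
    | rfl | (exfalso; omega)

theorem jm_mulVec_ee {k : ℕ} (_hk : k + 1 < n) :
    jm F n *ᵥ ee F n (k + 1) = ee F n (k + 1) + ee F n k := by
  funext i
  rw [jm_mulVec, Pi.add_apply]
  congr 1
  by_cases hi : (i : ℕ) + 1 < n
  · rw [ev_ee _ _ hi]; simp only [ee]; split_ifs <;> first | rfl | (exfalso; omega)
  · rw [ev_ge _ (by omega)]; simp only [ee]; rw [if_neg (by omega)]

theorem jm_mulVec_ee_zero : jm F n *ᵥ ee F n 0 = ee F n 0 := by
  funext i
  rw [jm_mulVec]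
  by_cases hi : (i : ℕ) + 1 < n
  · rw [ev_ee _ _ hi, if_neg (by omega), add_zero]
  · rw [ev_ge _ (by omega), add_zero]

theorem alt_vecMul_jm (_hn : 0 < n) : alt F n ᵥ* jm F n = ee F n 0 := by
  funext j
  rw [vecMul_jm]
  by_cases hj : 0 < (j : ℕ)
  · rw [if_pos hj, ev_lt _ (by omega)]
    simp only [alt, ee]
    rw [if_neg (by omega), show (j : ℕ) = ((j : ℕ) - 1) + 1 by omega, pow_succ, Nat.add_sub_cancel]
    ring
  · simp only [alt, ee]
    rw [if_neg hj, if_pos (by omega), show (j : ℕ) = 0 by omega]; simp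

theorem jm_mulVec_alt (hn : 0 < n) :
    jm F n *ᵥ alt F n = ((-1) ^ (n - 1) : F) • ee F n (n - 1) := by
  funext i
  rw [jm_mulVec, Pi.smul_apply, smul_eq_mul]
  simp only [ee]
  by_cases hi : (i : ℕ) + 1 < n
  · rw [ev_lt _ hi, if_neg (by omega)]
    simp only [alt, pow_succ]
    ring
  · rw [ev_ge _ (by omega), if_pos (by omega)]
    simp only [alt, show (i : ℕ) = n - 1 by omega]
    ring

theorem sign_sq (m : ℕ) : ((-1 : F) ^ m) * (-1) ^ m = 1 := by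
  rw [← mul_pow, neg_mul_neg, one_mul, one_pow]

theorem alt_vecMul_Jt (hn : 0 < n) :
    alt F n ᵥ* (Jt (F := F) (n := n)).1 = ((-1) ^ (n - 1) : F) • ee F n (n - 1) := by
  rw [Jt_coe, Matrix.vecMul_transpose, jm_mulVec_alt hn]

theorem Jt_mulVec_alt (hn : 0 < n) : (Jt (F := F) (n := n)).1 *ᵥ alt F n = ee F n 0 := by
  rw [Jt_coe, Matrix.mulVec_transpose, alt_vecMul_jm hn]

theorem Jt_mulVec_last (hn : 0 < n) :
    (Jt (F := F) (n := n)).1 *ᵥ ee F n (n - 1) = ee F n (n - 1) := by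
  rw [Jt_coe, Matrix.mulVec_transpose, ee_vecMul_jm]
  funext i
  simp only [Pi.add_apply, ee]
  rw [if_neg (show ¬ (i : ℕ) = n - 1 + 1 by omega), add_zero]

theorem vecMul_Jt_zero : ee F n 0 ᵥ* (Jt (F := F) (n := n)).1 = ee F n 0 := by
  rw [Jt_coe, Matrix.vecMul_transpose, jm_mulVec_ee_zero]

theorem ev_jm_mulVec (x : Fin n → F) {k : ℕ} (hk : k < n) :
    ev (jm F n *ᵥ x) k = ev x k + ev x (k + 1) := by
  rw [ev_lt _ hk, jm_mulVec, ev_lt x hk]

theorem ev_vecMul_jm (x : Fin n → F) {k : ℕ} (hk : k < n) :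
    ev (x ᵥ* jm F n) k = ev x k + if 0 < k then ev x (k - 1) else 0 := by
  rw [ev_lt _ hk, vecMul_jm, ev_lt x hk]

theorem comm_jm (hn : 0 < n) :
    jm F n * (jm F n)ᵀ - (jm F n)ᵀ * jm F n =
      vecMulVec (ee F n 0) (ee F n 0) - vecMulVec (ee F n (n - 1)) (ee F n (n - 1)) := by
  apply ext_mulVec
  intro x
  funext i
  simp only [Matrix.sub_mulVec, Pi.sub_apply, ← Matrix.mulVec_mulVec, Matrix.vecMulVec_mulVec,
    Matrix.mulVec_transpose, op_smul_eq_smul, Pi.smul_apply, smul_eq_mul, ee_dot hn,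
    ee_dot (show n - 1 < n by omega)]
  rw [← ev_lt x hn, ← ev_lt x (show n - 1 < n by omega), ← ev_lt (jm F n *ᵥ (x ᵥ* jm F n)) i.2,
    ← ev_lt ((jm F n *ᵥ x) ᵥ* jm F n) i.2, ev_jm_mulVec _ i.2, ev_vecMul_jm _ i.2, ev_vecMul_jm _ i.2,
    ev_jm_mulVec _ i.2]
  simp only [ee]
  rcases Nat.eq_zero_or_pos (i : ℕ) with h0 | h0 <;> by_cases h1 : (i : ℕ) + 1 < n
  · rw [ev_vecMul_jm _ h1, h0]
    simp [show ¬ 0 = n - 1 by omega]
  · rw [h0, ev_ge (x ᵥ* jm F n) (show n ≤ 0 + 1 by omega), show n - 1 = 0 by omega,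
      ev_ge x (show n ≤ 0 + 1 by omega)]
    simp
  · rw [ev_vecMul_jm _ h1, ev_jm_mulVec _ (show (i : ℕ) - 1 < n by omega), if_pos h0, if_pos h0,
      if_neg (show ¬ (i : ℕ) = 0 by omega), if_neg (show ¬ (i : ℕ) = n - 1 by omega),
      Nat.sub_add_cancel h0, Nat.add_sub_cancel, if_pos (Nat.succ_pos _)]
    ring
  · rw [ev_ge (x ᵥ* jm F n) (by omega), ev_jm_mulVec _ (show (i : ℕ) - 1 < n by omega), if_pos h0,
      if_pos h0, if_neg (show ¬ (i : ℕ) = 0 by omega), if_pos (show (i : ℕ) = n - 1 by omega),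
      Nat.sub_add_cancel h0, ev_ge x (show n ≤ (i : ℕ) + 1 by omega),
      show n - 1 = (i : ℕ) by omega]
    ring

/-- Formula for the last row of `T⁻¹` applied twice. -/
theorem last_vecMul_inv_sq (hn : 0 < n) :
    (ee F n (n - 1) ᵥ* (Jt (F := F) (n := n))⁻¹.1) ᵥ* (Jt (F := F) (n := n))⁻¹.1 ᵥ* jm F n =
      ((-1) ^ (n - 1) : F) • ((((n : F) + 1)) • ee F n 0 - alt F n) := by
  set σ : F := (-1) ^ (n - 1) with hσ
  have h1 : ee F n (n - 1) ᵥ* (Jt (F := F) (n := n))⁻¹.1 = σ • alt F n := by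
    refine vecMul_inv _ ?_
    rw [Matrix.smul_vecMul, alt_vecMul_Jt hn, smul_smul, sign_sq, one_smul]
  let b : Fin n → F := fun j => σ * ((-1) ^ (j : ℕ) * ((n : F) - ((j : ℕ) : F)))
  have h2 : (σ • alt F n) ᵥ* (Jt (F := F) (n := n))⁻¹.1 = b := by
    refine vecMul_inv _ ?_
    funext j
    rw [vecMul_Jt]
    simp only [b, alt, Pi.smul_apply, smul_eq_mul]
    by_cases hj : (j : ℕ) + 1 < n
    · rw [ev_lt _ hj]; push_cast [pow_succ]; ring
    · rw [ev_ge _ (by omega)]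
      have : (n : F) - ((j : ℕ) : F) = 1 := by
        rw [sub_eq_iff_eq_add', ← Nat.cast_one (R := F), ← Nat.cast_add]
        congr 1
        omega
      rw [this]; ring
  rw [h1, h2]
  funext j
  rw [vecMul_jm]
  simp only [b, Pi.smul_apply, Pi.sub_apply, smul_eq_mul, alt, ee]
  by_cases hj : 0 < (j : ℕ)
  · rw [if_pos hj, ev_lt _ (by omega), if_neg (by omega)]
    obtain ⟨m, hm⟩ : ∃ m, (j : ℕ) = m + 1 := ⟨(j : ℕ) - 1, by omega⟩
    simp only [hm, Nat.add_sub_cancel]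
    push_cast [pow_succ]
    ring
  · rw [if_neg hj, if_pos (by omega), show (j : ℕ) = 0 by omega]
    simp

theorem comm_Jt (hn : 0 < n) :
    (Jt (F := F) (n := n)).1 * (J (F := F) (n := n)).1 - (J (F := F) (n := n)).1 * (Jt (F := F) (n := n)).1 =
      vecMulVec (ee F n (n - 1)) (ee F n (n - 1)) - vecMulVec (ee F n 0) (ee F n 0) := by
  rw [J_coe, Jt_coe, ← neg_sub (jm F n * (jm F n)ᵀ), comm_jm hn, neg_sub]

theorem cinv (g : Matrix.SpecialLinearGroup (Fin n) F) :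
    g.1 * (g⁻¹).1 = 1 ∧ (g⁻¹).1 * g.1 = 1 := by
  constructor <;> rw [← Matrix.SpecialLinearGroup.coe_mul] <;>
    simp [Matrix.SpecialLinearGroup.coe_one]

/-- The matrix `X - 1` for the first conjugate. -/
def bm (F : Type*) [Field F] (n : ℕ) : Matrix (Fin n) (Fin n) F :=
  vecMulVec (ee F n (n - 1)) ((-((-1) ^ (n - 1) : F)) • alt F n + ((n : F) + 1) • ee F n (n - 1))
    - ((-1) ^ (n - 1) : F) • vecMulVec (alt F n) (ee F n (n - 1))

/-- The axis `(1, 3, 3, 1)`. -/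
def qv (F : Type*) [Field F] (n : ℕ) : Fin n → F :=
  ee F n 0 + (3 : F) • ee F n 1 + (3 : F) • ee F n 2 + ee F n 3

/-- The axis `(n, 2n+1, n+1)`. -/
def rv (F : Type*) [Field F] (n : ℕ) : Fin n → F :=
  (n : F) • ee F n 0 + (2 * (n : F) + 1) • ee F n 1 + ((n : F) + 1) • ee F n 2

set_option maxHeartbeats 1000000 in
theorem X_coe (hn0 : 0 < n) :
    (J * Jt⁻¹ * J⁻¹ * Jt : Matrix.SpecialLinearGroup (Fin n) F).1 = 1 + bm F n := by
  set σ : F := (-1) ^ (n - 1) with hσ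
  have hσσ : σ * σ = 1 := sign_sq _
  set u : Matrix.SpecialLinearGroup (Fin n) F := J with hu
  set v : Matrix.SpecialLinearGroup (Fin n) F := Jt with hv
  set L := ee F n (n - 1) with hL
  set e0 := ee F n 0 with he0
  have hcomm : v.1 * u.1 - u.1 * v.1 = vecMulVec L L - vecMulVec e0 e0 := comm_Jt hn0
  set X := u * v⁻¹ * u⁻¹ * v with hX
  rw [bm, ← hσ, ← hL]
  have e1 : u.1 * (v⁻¹).1 - (v⁻¹).1 * u.1 = (v⁻¹).1 * (v.1 * u.1 - u.1 * v.1) * (v⁻¹).1 := by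
    rw [mul_sub, sub_mul, ← mul_assoc, (cinv v).2, one_mul, mul_assoc (v⁻¹).1 (u.1 * v.1),
      mul_assoc u.1, (cinv v).1, mul_one]
  have a1 : (v⁻¹).1 *ᵥ L = L := mulVec_inv _ (Jt_mulVec_last hn0)
  have a2 : (v⁻¹).1 *ᵥ e0 = alt F n := mulVec_inv _ (Jt_mulVec_alt hn0)
  have a3 : e0 ᵥ* (v⁻¹).1 = e0 := vecMul_inv _ vecMul_Jt_zero
  have a4 : L ᵥ* (v⁻¹).1 = σ • alt F n := vecMul_inv _ (by
    rw [Matrix.smul_vecMul, alt_vecMul_Jt hn0, smul_smul, sign_sq, one_smul])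
  rw [hcomm, mul_sub, Matrix.mul_vecMulVec, Matrix.mul_vecMulVec, sub_mul, Matrix.vecMulVec_mul,
    Matrix.vecMulVec_mul, a1, a2, a3, a4] at e1
  let w : Fin n → F := fun j => (-1) ^ (j : ℕ) * ((((j : ℕ) : F)) + 1)
  have a5 : e0 ᵥ* (u⁻¹).1 = alt F n := vecMul_inv _ (alt_vecMul_jm hn0)
  have a6 : alt F n ᵥ* (u⁻¹).1 = w := vecMul_inv _ (by
    funext j
    rw [hu, J_coe, vecMul_jm]
    simp only [w, alt]
    by_cases hj : 0 < (j : ℕ)
    · rw [if_pos hj, ev_lt _ (by omega)]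
      obtain ⟨m, hm⟩ : ∃ m, (j : ℕ) = m + 1 := ⟨(j : ℕ) - 1, by omega⟩
      simp only [hm, Nat.add_sub_cancel]
      push_cast [pow_succ]
      ring
    · rw [if_neg hj, show (j : ℕ) = 0 by omega]; simp)
  have a7 : w ᵥ* v.1 = -alt F n + (σ * ((n : F) + 1)) • L := by
    funext j
    rw [hv, vecMul_Jt]
    simp only [w, alt, hL, ee, Pi.add_apply, Pi.neg_apply, Pi.smul_apply, smul_eq_mul]
    by_cases hj : (j : ℕ) + 1 < n
    · rw [ev_lt _ hj, if_neg (by omega)]; push_cast [pow_succ]; ring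
    · rw [ev_ge _ (by omega), if_pos (by omega), hσ, show (j : ℕ) = n - 1 by omega,
        Nat.cast_sub (by omega : 1 ≤ n), Nat.cast_one]
      ring
  have e2 : X.1 = u.1 * (v⁻¹).1 * ((u⁻¹).1 * v.1) := by
    simp only [hX, Matrix.SpecialLinearGroup.coe_mul, mul_assoc]
  have e4 : (v⁻¹).1 * u.1 * ((u⁻¹).1 * v.1) = 1 := by
    rw [mul_assoc, ← mul_assoc u.1, (cinv u).1, one_mul, (cinv v).2]
  rw [e2, ← sub_add_cancel (u.1 * (v⁻¹).1) ((v⁻¹).1 * u.1), e1, add_mul, e4, sub_mul,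
    Matrix.vecMulVec_mul, Matrix.vecMulVec_mul, ← Matrix.vecMul_vecMul, ← Matrix.vecMul_vecMul,
    Matrix.smul_vecMul, Matrix.smul_vecMul, a5, a6, alt_vecMul_Jt hn0, a7, ← hσ, smul_add,
    smul_smul, ← mul_assoc, hσσ, one_mul, add_comm, smul_neg, neg_smul, ← hL,
    Matrix.vecMulVec_smul]

set_option maxHeartbeats 1000000 in
theorem Y_coe (hn : 4 ≤ n) :
    ((J * J * J)⁻¹ * (Jt * J⁻¹ * Jt * J * Jt⁻¹ * Jt⁻¹) * (J * J * J) :
      Matrix.SpecialLinearGroup (Fin n) F).1 =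
      1 + (vecMulVec (ee F n 0) ((2 : F) • qv F n + rv F n) - vecMulVec (ee F n 1) (qv F n)) := by
  have hn0 : 0 < n := by omega
  set σ : F := (-1) ^ (n - 1) with hσ
  have hσσ : σ * σ = 1 := sign_sq _
  set u : Matrix.SpecialLinearGroup (Fin n) F := J with hu
  set v : Matrix.SpecialLinearGroup (Fin n) F := Jt with hv
  set L := ee F n (n - 1) with hL
  set e0 := ee F n 0 with he0
  have hcomm : v.1 * u.1 - u.1 * v.1 = vecMulVec L L - vecMulVec e0 e0 := comm_Jt hn0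
  set D := v * u⁻¹ * v * u * v⁻¹ * v⁻¹ with hD
  set q := qv F n with hqd
  set r := rv F n with hrd
  have b0 : (u⁻¹).1 *ᵥ L = σ • alt F n := mulVec_inv _ (by
    rw [hu, J_coe, Matrix.mulVec_smul, jm_mulVec_alt hn0, smul_smul, sign_sq, one_smul])
  have b1 : v.1 *ᵥ ((u⁻¹).1 *ᵥ L) = σ • e0 := by
    rw [b0, Matrix.mulVec_smul, hv, Jt_mulVec_alt hn0]
  have b2 : v.1 *ᵥ ((u⁻¹).1 *ᵥ e0) = e0 + ee F n 1 := by
    rw [mulVec_inv u (by rw [hu, J_coe, he0]; exact jm_mulVec_ee_zero), hv, Jt_coe,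
      Matrix.mulVec_transpose, he0, ee_vecMul_jm]
  have b3 : (e0 ᵥ* (v⁻¹).1) ᵥ* (v⁻¹).1 = e0 := by
    rw [vecMul_inv v vecMul_Jt_zero, vecMul_inv v vecMul_Jt_zero]
  have e1 : v.1 * (u⁻¹).1 * (v.1 * u.1) =
      v.1 * v.1 + (v.1 * (u⁻¹).1) * (v.1 * u.1 - u.1 * v.1) := by
    rw [mul_sub, mul_assoc v.1 _ (u.1 * v.1), ← mul_assoc (u⁻¹).1 u.1, (cinv u).2, one_mul,
      add_sub_cancel]
  rw [hcomm, mul_sub, Matrix.mul_vecMulVec, Matrix.mul_vecMulVec, ← Matrix.mulVec_mulVec,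
    ← Matrix.mulVec_mulVec, b1, b2] at e1
  have hDm : D.1 = 1 + (vecMulVec (σ • e0) ((L ᵥ* (v⁻¹).1) ᵥ* (v⁻¹).1)
      - vecMulVec (e0 + ee F n 1) e0) := by
    simp only [hD, Matrix.SpecialLinearGroup.coe_mul]
    rw [mul_assoc (v.1 * (u⁻¹).1), e1, add_mul, add_mul, sub_mul, sub_mul, Matrix.vecMulVec_mul,
      Matrix.vecMulVec_mul, Matrix.vecMulVec_mul, Matrix.vecMulVec_mul, b3]
    congr 1
    rw [mul_assoc v.1, (cinv v).1, mul_one, (cinv v).1]
  have c0 : (u⁻¹).1 *ᵥ e0 = e0 := mulVec_inv _ (by rw [hu, J_coe, he0]; exact jm_mulVec_ee_zero)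
  have c1 : (u⁻¹).1 *ᵥ (ee F n 1) = ee F n 1 - e0 := mulVec_inv _ (by
    rw [hu, J_coe, Matrix.mulVec_sub, jm_mulVec_ee (show 0 + 1 < n by omega), he0, jm_mulVec_ee_zero]
    abel)
  have d0 : ((e0 ᵥ* u.1) ᵥ* u.1) ᵥ* u.1 = q := by
    simp only [hu, J_coe, he0, ee_vecMul_jm, Matrix.add_vecMul, hqd, qv]
    module
  have d1 : (((L ᵥ* (v⁻¹).1) ᵥ* (v⁻¹).1) ᵥ* u.1 ᵥ* u.1) ᵥ* u.1 = σ • r := by
    rw [hu, J_coe, hv, hL, last_vecMul_inv_sq hn0]
    simp only [Matrix.smul_vecMul, Matrix.sub_vecMul, alt_vecMul_jm hn0, ee_vecMul_jm,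
      Matrix.add_vecMul, hrd, rv, ← hσ]
    module
  have hu3 : ((u * u * u)⁻¹).1 = (u⁻¹).1 * ((u⁻¹).1 * (u⁻¹).1) := by
    simp only [_root_.mul_inv_rev, Matrix.SpecialLinearGroup.coe_mul]
  simp only [Matrix.SpecialLinearGroup.coe_mul]
  rw [hDm, hu3, mul_add, add_mul, mul_one]
  congr 1
  · simp only [mul_assoc]
    rw [← mul_assoc (u⁻¹).1 u.1, (cinv u).2, one_mul, ← mul_assoc (u⁻¹).1 u.1, (cinv u).2, one_mul,
      (cinv u).2]
  · rw [mul_sub, sub_mul, Matrix.mul_vecMulVec, Matrix.mul_vecMulVec, Matrix.vecMulVec_mul,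
      Matrix.vecMulVec_mul]
    simp only [← Matrix.mulVec_mulVec, ← Matrix.vecMul_vecMul, Matrix.mulVec_add, Matrix.mulVec_sub,
      Matrix.mulVec_smul, c0, c1, d0, d1]
    simp only [Matrix.add_vecMulVec, Matrix.sub_vecMulVec, Matrix.smul_vecMulVec,
      Matrix.vecMulVec_smul, Matrix.vecMulVec_add, smul_smul, hσσ, one_smul]
    module

variable {G : Subgroup (Matrix.SpecialLinearGroup (Fin n) F)}

set_option maxHeartbeats 1000000 in
/-- Transvection with centre `e_L` inside `⟨J, T⟩`, for `n ≥ 5`. -/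
theorem exists_transvection_word (hn : 5 ≤ n) (hJ : J ∈ G) (hT : Jt ∈ G) :
    ∃ ψ : Fin n → F, ψ ≠ 0 ∧ In G (ee F n (n - 1)) ψ := by
  classical
  have hn0 : 0 < n := by omega
  set σ : F := (-1) ^ (n - 1) with hσ
  have hσσ : σ * σ = 1 := sign_sq _
  set u : Matrix.SpecialLinearGroup (Fin n) F := J with hu
  set v : Matrix.SpecialLinearGroup (Fin n) F := Jt with hv
  set L := ee F n (n - 1) with hL
  set e0 := ee F n 0 with he0
  set X := u * v⁻¹ * u⁻¹ * v with hX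
  set B := bm F n with hBd
  have hXB : X.1 = 1 + B := X_coe hn0
  set D := v * u⁻¹ * v * u * v⁻¹ * v⁻¹ with hD
  set Y := (u * u * u)⁻¹ * D * (u * u * u) with hY
  set q := qv F n with hqd
  set r := rv F n with hrd
  set Z := vecMulVec e0 ((2 : F) • q + r) - vecMulVec (ee F n 1) q with hZd
  have hYZ : Y.1 = 1 + Z := Y_coe (by omega)
  -- the commutator
  set p : Fin n → F := (2 : F) • q + r
  have hZB : Z * B = 0 := by
    have hq : ∀ c : Fin n → F, c ⬝ᵥ q = c ⟨0, by omega⟩ + 3 * c ⟨1, by omega⟩ + 3 * c ⟨2, by omega⟩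
        + c ⟨3, by omega⟩ := fun c => by
      simp only [hqd, qv, dotProduct_add, dotProduct_smul, smul_eq_mul, dot_ee (show 0 < n by omega),
        dot_ee (show 1 < n by omega), dot_ee (show 2 < n by omega), dot_ee (show 3 < n by omega)]
    have hr : ∀ c : Fin n → F, c ⬝ᵥ r = (n : F) * c ⟨0, by omega⟩
        + (2 * (n : F) + 1) * c ⟨1, by omega⟩ + ((n : F) + 1) * c ⟨2, by omega⟩ := fun c => by
      simp only [hrd, rv, dotProduct_add, dotProduct_smul, smul_eq_mul, dot_ee (show 0 < n by omega),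
        dot_ee (show 1 < n by omega), dot_ee (show 2 < n by omega)]
    have q1 : alt F n ⬝ᵥ q = 0 := by rw [hq]; simp [alt]; ring
    have r1 : alt F n ⬝ᵥ r = 0 := by rw [hr]; simp [alt]; ring
    have q2 : L ⬝ᵥ q = 0 := by
      rw [hq]; simp only [hL, ee]
      rw [if_neg (by omega), if_neg (by omega), if_neg (by omega), if_neg (by omega)]; ring
    have r2 : L ⬝ᵥ r = 0 := by
      rw [hr]; simp only [hL, ee]
      rw [if_neg (by omega), if_neg (by omega), if_neg (by omega)]; ring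
    have hkill : ∀ y : Fin n → F, alt F n ⬝ᵥ y = 0 → L ⬝ᵥ y = 0 → y ᵥ* B = 0 := by
      intro y hy1 hy2
      simp only [hBd, bm, ← hσ, ← hL, Matrix.vecMul_sub, Matrix.vecMul_smul, Matrix.vecMul_vecMulVec]
      rw [dotProduct_comm y, dotProduct_comm y, hy1, hy2]
      simp
    rw [hZd, sub_mul, Matrix.vecMulVec_mul, Matrix.vecMulVec_mul,
      hkill q q1 q2, hkill p (by simp [p, dotProduct_add, dotProduct_smul, q1, r1])
        (by simp [p, dotProduct_add, dotProduct_smul, q2, r2])]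
    simp
  have hB : ∀ y : Fin n → F, L ⬝ᵥ y = 0 →
      B *ᵥ y = (-σ * (alt F n ⬝ᵥ y)) • L := by
    intro y hy
    simp only [hBd, bm, ← hσ, ← hL, Matrix.sub_mulVec, Matrix.smul_mulVec, Matrix.vecMulVec_mulVec,
      add_dotProduct, smul_dotProduct, op_smul_eq_smul, hy, smul_eq_mul, mul_zero, add_zero,
      zero_smul, smul_zero, sub_zero]
  have hB0 : B *ᵥ e0 = (-σ) • L := by
    rw [hB e0 (by rw [hL, he0, dot_ee hn0]; simp only [ee]; rw [if_neg (by omega)]), he0, dot_ee hn0]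
    simp [alt]
  have hB1 : B *ᵥ ee F n 1 = σ • L := by
    rw [hB _ (by rw [hL, dot_ee (show 1 < n by omega)]; simp only [ee]; rw [if_neg (by omega)]),
      dot_ee (show 1 < n by omega)]
    simp [alt]
  have hBZ : B * Z = vecMulVec ((-σ) • L) (p + q) := by
    rw [hZd, mul_sub, Matrix.mul_vecMulVec, Matrix.mul_vecMulVec, hB0, hB1, Matrix.vecMulVec_add ((-σ) • L) p q,
      Matrix.smul_vecMulVec, Matrix.smul_vecMulVec, Matrix.smul_vecMulVec]
    module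
  have hmem : X * Y * X⁻¹ * Y⁻¹ ∈ G := by
    have hXm : X ∈ G := mul_mem (mul_mem (mul_mem hJ (inv_mem hT)) (inv_mem hJ)) hT
    have hDm : D ∈ G := mul_mem (mul_mem (mul_mem (mul_mem (mul_mem hT (inv_mem hJ)) hT) hJ)
      (inv_mem hT)) (inv_mem hT)
    have h3 : u * u * u ∈ G := mul_mem (mul_mem hJ hJ) hJ
    have hYm : Y ∈ G := mul_mem (mul_mem (inv_mem h3) hDm) h3
    exact mul_mem (mul_mem (mul_mem hXm hYm) (inv_mem hXm)) (inv_mem hYm)
  set W := (Y * X)⁻¹ with hW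
  have hval : (X * Y * X⁻¹ * Y⁻¹).1 = tv L ((-σ) • ((p + q) ᵥ* W.1)) := by
    have : X * Y * X⁻¹ * Y⁻¹ = X * Y * W := by rw [hW]; group
    rw [this, Matrix.SpecialLinearGroup.coe_mul, Matrix.SpecialLinearGroup.coe_mul]
    have e : X.1 * Y.1 = Y.1 * X.1 + vecMulVec ((-σ) • L) (p + q) := by
      rw [hXB, hYZ, ← hBZ, add_mul, mul_add, add_mul 1 Z, mul_add Z, mul_add B, hZB]
      simp only [one_mul, mul_one]
      abel
    rw [e, add_mul, Matrix.vecMulVec_mul, ← Matrix.SpecialLinearGroup.coe_mul Y X,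
      ← Matrix.SpecialLinearGroup.coe_mul, hW, mul_inv_cancel, Matrix.SpecialLinearGroup.coe_one,
      tv, Matrix.smul_vecMulVec, Matrix.vecMulVec_smul]
  have hdot : ((-σ) • ((p + q) ᵥ* W.1)) ⬝ᵥ L = 0 := by
    have := (X * Y * X⁻¹ * Y⁻¹).2
    rw [hval, tv_det] at this
    simpa using this
  refine ⟨_, ?_, hdot, X * Y * X⁻¹ * Y⁻¹, hmem, hval⟩
  intro h0
  have hσ0 : -σ ≠ 0 := neg_ne_zero.mpr (left_ne_zero_of_mul_eq_one hσσ)
  have h1 : (p + q) ᵥ* W.1 = 0 := (smul_eq_zero.mp h0).resolve_left hσ0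
  have h2 : p + q = 0 := by
    have := vecMul_inv W (rfl : (p + q) ᵥ* W.1 = _)
    rw [h1, Matrix.zero_vecMul] at this
    exact this.symm
  have h3 := congrFun h2 ⟨3, by omega⟩
  have h4 := congrFun h2 ⟨2, by omega⟩
  simp [p, hqd, hrd, qv, rv, ee] at h3 h4
  have h5 : (3 : F) = 0 := by linear_combination h3
  have h6 := congrFun h2 ⟨1, by omega⟩
  simp [p, hqd, hrd, qv, rv, ee] at h6
  exact one_ne_zero (α := F) (by linear_combination -(h6 - 2 * h4) - 3 * h5)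

end Cfsg.Agent.Small.Generation.TwoUnip
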