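import Mathlib
import Cfsg.Agent.Lib.Small.Generation.TwoUnipotent.Word

/-!
`SL_n(F)`, `|F|` prime and `n ≥ 4`, is generated by two conjugate regular unipotent elements.
-/

set_option autoImplicit false
set_option linter.unusedSectionVars false

namespace Cfsg.Agent.Small.Generation.TwoUnip

open Matrix Generation

variable {F : Type*} [Field F] {n : ℕ}

/-- Matrix of the reversal. -/
def rev0 (F : Type*) [Field F] (n : ℕ) : Matrix (Fin n) (Fin n) F :=
  Matrix.of fun i j => if (i : ℕ) + j + 1 = n then 1 else 0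

theorem rev0_det : ∀ n : ℕ, (rev0 F n).det = ∏ i : Fin n, (-1 : F) ^ (i : ℕ)
  | 0 => by simp
  | n + 1 => by
    rw [Matrix.det_succ_row_zero, Finset.sum_eq_single (Fin.last n), Fin.prod_univ_castSucc]
    · have h : (rev0 F (n + 1)).submatrix Fin.succ (Fin.last n).succAbove = rev0 F n := by
        ext i j
        simp only [rev0, Matrix.submatrix_apply, Matrix.of_apply, Fin.succAbove_last, Fin.val_succ,
          Fin.val_castSucc]
        split_ifs <;> first | rfl | (exfalso; omega)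
      rw [h, rev0_det n]
      simp [rev0, mul_comm]
    · intro b _ hb
      have : (b : ℕ) ≠ n := fun h => hb (Fin.ext (by simpa using h))
      simp [rev0, this]
    · simp

theorem rev0_mulVec (x : Fin n → F) (i : Fin n) : (rev0 F n *ᵥ x) i = ev x (n - 1 - i) := by
  rw [ev_lt _ (by omega), Matrix.mulVec, dotProduct, Finset.sum_eq_single (⟨n - 1 - i, by omega⟩ : Fin n)]
  · simp only [rev0, Matrix.of_apply]
    rw [if_pos (by omega), one_mul]
  · intro b _ hb
    simp only [rev0, Matrix.of_apply]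
    rw [if_neg (fun h => hb (Fin.ext (by simp only; omega))), zero_mul]
  · simp

/-- Pascal-type matrix conjugating `J` into `J⁻¹`, by columns. -/
def pas (F : Type*) [Field F] : ℕ → ℕ → F
  | 0, i => if i = 0 then 1 else 0
  | _ + 1, 0 => 0
  | j + 1, i + 1 => -(pas F j i + pas F j (i + 1))

theorem pas_eq_zero : ∀ j i : ℕ, j < i → pas F j i = 0
  | 0, i, h => by rw [pas, if_neg (by omega)]
  | j + 1, 0, h => by omega
  | j + 1, i + 1, h => by
    rw [pas, pas_eq_zero j i (by omega), pas_eq_zero j (i + 1) (by omega)]; simp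

theorem pas_self : ∀ j : ℕ, pas F j j = (-1) ^ j
  | 0 => by simp [pas]
  | j + 1 => by rw [pas, pas_self j, pas_eq_zero j (j + 1) (by omega), pow_succ]; ring

theorem pas_step (j i : ℕ) : pas F (j + 1) (i + 1) + pas F j i + pas F j (i + 1) = 0 := by
  rw [pas]; ring

/-- The Pascal-type matrix. -/
def pm (F : Type*) [Field F] (n : ℕ) : Matrix (Fin n) (Fin n) F :=
  Matrix.of fun i j => pas F (j : ℕ) (i : ℕ)

theorem pm_det : (pm F n).det = ∏ i : Fin n, (-1 : F) ^ (i : ℕ) := by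
  rw [Matrix.det_of_isUpperTriangular]
  · exact Finset.prod_congr rfl fun i _ => pas_self i
  · intro i j hij
    simp only [id_eq, Fin.lt_def] at hij
    exact pas_eq_zero _ _ hij

theorem jm_pm_jm : jm F n * (pm F n * jm F n) = pm F n := by
  ext i j
  have h1 : ∀ i : Fin n, (pm F n * jm F n) i j =
      pas F (j : ℕ) i + if 0 < (j : ℕ) then pas F ((j : ℕ) - 1) i else 0 := by
    intro i
    change ((fun k => pm F n i k) ᵥ* jm F n) j = _
    rw [vecMul_jm]
    congr 1
    split_ifs with h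
    · rw [ev_lt _ (by omega)]; rfl
    · rfl
  change (jm F n *ᵥ fun k => (pm F n * jm F n) k j) i = pas F (j : ℕ) i
  rw [jm_mulVec, h1]
  have h2 : ev (fun k => (pm F n * jm F n) k j) ((i : ℕ) + 1) =
      pas F (j : ℕ) ((i : ℕ) + 1) + if 0 < (j : ℕ) then pas F ((j : ℕ) - 1) ((i : ℕ) + 1) else 0 := by
    by_cases h : (i : ℕ) + 1 < n
    · rw [ev_lt _ h, h1]
    · rw [ev_ge _ (by omega), pas_eq_zero _ _ (by omega)]
      split_ifs
      · rw [pas_eq_zero _ _ (by omega), add_zero]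
      · rw [add_zero]
  rw [h2]
  rcases Nat.eq_zero_or_pos (j : ℕ) with h | h
  · rw [h, if_neg (lt_irrefl 0), if_neg (lt_irrefl 0), pas_eq_zero 0 ((i : ℕ) + 1) (by omega)]; simp
  · obtain ⟨m, hm⟩ : ∃ m, (j : ℕ) = m + 1 := ⟨(j : ℕ) - 1, by omega⟩
    rw [hm, if_pos (Nat.succ_pos m), if_pos (Nat.succ_pos m), Nat.add_sub_cancel]
    linear_combination pas_step (F := F) m i

/-- `J` is conjugate in `SL_n` to the inverse of its transpose. -/
theorem exists_conj_Jt :
    ∃ g : Matrix.SpecialLinearGroup (Fin n) F, g * J * g⁻¹ = Jt⁻¹ := by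
  let g : Matrix.SpecialLinearGroup (Fin n) F := ⟨rev0 F n * pm F n, by
    rw [Matrix.det_mul, rev0_det, pm_det, ← Finset.prod_mul_distrib,
      Finset.prod_eq_one fun i _ => sign_sq _]⟩
  refine ⟨g, ?_⟩
  rw [mul_inv_eq_iff_eq_mul, eq_inv_mul_iff_mul_eq]
  apply Subtype.ext
  simp only [Matrix.SpecialLinearGroup.coe_mul]
  change (jm F n)ᵀ * (rev0 F n * pm F n * jm F n) = rev0 F n * pm F n
  have h : (jm F n)ᵀ * rev0 F n = rev0 F n * jm F n := by
    apply ext_mulVec
    intro x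
    funext i
    rw [← Matrix.mulVec_mulVec, ← Matrix.mulVec_mulVec, rev0_mulVec, Matrix.mulVec_transpose,
      vecMul_jm, rev0_mulVec, ev_jm_mulVec _ (by omega)]
    congr 1
    by_cases hi : 0 < (i : ℕ)
    · rw [if_pos hi, ev_lt _ (show (i : ℕ) - 1 < n by omega), rev0_mulVec]
      congr 1
      simp only
      omega
    · rw [if_neg hi, ev_ge x (by omega)]
  rw [mul_assoc (rev0 F n) (pm F n), ← mul_assoc, h, mul_assoc, jm_pm_jm]

variable {G : Subgroup (Matrix.SpecialLinearGroup (Fin n) F)}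

theorem all_multiples [Fintype F] (hp : (Fintype.card F).Prime) {a φ : Fin n → F} (h : In G a φ)
    (t : F) : In G (t • a) φ := by
  classical
  let A : AddSubgroup F :=
    { carrier := {t | In G (t • a) φ}
      zero_mem' := by simp only [Set.mem_ofPred_eq, zero_smul]; exact In.zero_left _
      add_mem' := fun ha hb => by simp only [Set.mem_ofPred_eq, add_smul]; exact In.add ha hb
      neg_mem' := fun ha => by simp only [Set.mem_ofPred_eq, neg_smul]; exact In.neg ha }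
  have : Fact (Nat.card F).Prime := ⟨by rwa [Nat.card_eq_fintype_card]⟩
  have h1 : (1 : F) ∈ A := by
    change In G ((1 : F) • a) φ
    rwa [one_smul]
  rcases A.eq_bot_or_eq_top_of_prime_card with h' | h'
  · rw [h', AddSubgroup.mem_bot] at h1; exact absurd h1 one_ne_zero
  · have : t ∈ A := h' ▸ AddSubgroup.mem_top t
    exact this

/-- Lowering the axis of a transvection with centre `e_L` by `T`. -/
theorem highest_of_centre [Fintype F] (hp : (Fintype.card F).Prime) (hn : 0 < n) (hT : Jt ∈ G)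
    {ψ : Fin n → F} (hψ : ψ ≠ 0) (h : In G (ee F n (n - 1)) ψ) (t : F) :
    In G (t • Pi.single (last hn) 1) (Pi.single (⟨0, hn⟩ : Fin n) 1) := by
  classical
  have hL : (Pi.single (last hn) 1 : Fin n → F) = ee F n (n - 1) := single_eq_ee _
  set eL := ee F n (n - 1) with heL
  have hshift : ∀ k : ℕ, In G eL (fun i => ev ψ ((i : ℕ) + k)) := by
    intro k
    induction k with
    | zero =>
      convert h using 1
      funext i
      exact ev_lt ψ i.2
    | succ k ih =>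
      have h1 := ih.conj (inv_mem hT)
      rw [inv_inv, mulVec_inv _ (Jt_mulVec_last hn)] at h1
      have h2 := TwoUnip.In.add_right h1 (TwoUnip.In.right (G := G) (neg_ne_zero.mpr one_ne_zero)
        (k := (-1 : F)) (φ := fun i : Fin n => ev ψ ((i : ℕ) + k)) (a := eL)
        (by rw [neg_one_smul]; exact ih.neg))
      convert h2 using 1
      funext i
      rw [Pi.add_apply, vecMul_Jt, Pi.smul_apply, smul_eq_mul]
      have : ev (fun i : Fin n => ev ψ ((i : ℕ) + k)) ((i : ℕ) + 1) = ev ψ ((i : ℕ) + (k + 1)) := by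
        by_cases hi : (i : ℕ) + 1 < n
        · rw [ev_lt _ hi, show (i : ℕ) + (k + 1) = (i : ℕ) + 1 + k by omega]
        · rw [ev_ge _ (by omega), ev_ge _ (by omega)]
      rw [this]
      ring
  obtain ⟨j, hj⟩ : ∃ j, ψ j ≠ 0 := Function.ne_iff.mp hψ
  have hne : (Finset.univ.filter fun i => ψ i ≠ 0).Nonempty := ⟨j, by simp [hj]⟩
  obtain ⟨J0, hJ0, hmax⟩ := Finset.exists_max_image (Finset.univ.filter fun i => ψ i ≠ 0)
    (fun i => (i : ℕ)) hne
  simp only [Finset.mem_filter, Finset.mem_univ, true_and] at hJ0 hmax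
  have h3 := hshift (J0 : ℕ)
  rw [show (fun i : Fin n => ev ψ ((i : ℕ) + J0)) = ψ J0 • (Pi.single (⟨0, hn⟩ : Fin n) 1 : Fin n → F) by
    funext i
    rw [Pi.smul_apply, smul_eq_mul, Pi.single_apply]
    by_cases hi : i = (⟨0, hn⟩ : Fin n)
    · rw [if_pos hi, mul_one, hi, ev_lt _ (by simp)]
      simp
    · rw [if_neg hi, mul_zero]
      have hi' : (i : ℕ) ≠ 0 := fun e => hi (Fin.ext e)
      by_cases hlt : (i : ℕ) + J0 < n
      · rw [ev_lt _ hlt]
        by_contra hne'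
        have := hmax _ hne'
        simp only at this
        omega
      · rw [ev_ge _ (by omega)]] at h3
  have h4 := all_multiples hp (TwoUnip.In.left hJ0 h3) (t / ψ J0)
  rwa [smul_smul, div_mul_cancel₀ _ hJ0, ← hL] at h4

section Four

/-- Image in `F` of an integral matrix. -/
def cm (M : Matrix (Fin 4) (Fin 4) ℤ) : Matrix (Fin 4) (Fin 4) F := M.map (Int.castRingHom F)

theorem cm_mul (A B : Matrix (Fin 4) (Fin 4) ℤ) : (cm (A * B) : Matrix (Fin 4) (Fin 4) F) = cm A * cm B :=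
  Matrix.map_mul

/-- Integral `J`. -/
def iu : Matrix (Fin 4) (Fin 4) ℤ := !![1, 1, 0, 0; 0, 1, 1, 0; 0, 0, 1, 1; 0, 0, 0, 1]
/-- Integral `J⁻¹`. -/
def iU : Matrix (Fin 4) (Fin 4) ℤ := !![1, -1, 1, -1; 0, 1, -1, 1; 0, 0, 1, -1; 0, 0, 0, 1]
/-- Integral `T`. -/
def iv : Matrix (Fin 4) (Fin 4) ℤ := !![1, 0, 0, 0; 1, 1, 0, 0; 0, 1, 1, 0; 0, 0, 1, 1]
/-- Integral `T⁻¹`. -/
def iV : Matrix (Fin 4) (Fin 4) ℤ := !![1, 0, 0, 0; -1, 1, 0, 0; 1, -1, 1, 0; -1, 1, -1, 1]

theorem cm_iu : (cm iu : Matrix (Fin 4) (Fin 4) F) = (J (F := F) (n := 4)).1 := by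
  ext i j
  fin_cases i <;> fin_cases j <;> simp [cm, iu, J_coe, jm]

theorem cm_iv : (cm iv : Matrix (Fin 4) (Fin 4) F) = (Jt (F := F) (n := 4)).1 := by
  ext i j
  fin_cases i <;> fin_cases j <;> simp [cm, iv, Jt_coe, jm]

theorem cm_inv {A B : Matrix (Fin 4) (Fin 4) ℤ} {g : Matrix.SpecialLinearGroup (Fin 4) F}
    (hA : cm A = g.1) (h : B * A = 1) : (cm B : Matrix (Fin 4) (Fin 4) F) = (g⁻¹).1 := by
  have h1 : (cm B : Matrix (Fin 4) (Fin 4) F) * g.1 = 1 := by
    rw [← hA, ← cm_mul, h]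
    ext i j
    fin_cases i <;> fin_cases j <;> simp [cm]
  calc (cm B : Matrix (Fin 4) (Fin 4) F) = cm B * (g.1 * (g⁻¹).1) := by rw [(cinv g).1, mul_one]
    _ = (g⁻¹).1 := by rw [← mul_assoc, h1, one_mul]

/-- A subgroup containing the image of an integral matrix. -/
def Lift (G : Subgroup (Matrix.SpecialLinearGroup (Fin 4) F)) (M : Matrix (Fin 4) (Fin 4) ℤ) : Prop :=
  ∃ g ∈ G, g.1 = cm M

theorem Lift.mul {G : Subgroup (Matrix.SpecialLinearGroup (Fin 4) F)} {A B : Matrix (Fin 4) (Fin 4) ℤ}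
    (hA : Lift G A) (hB : Lift G B) : Lift G (A * B) := by
  obtain ⟨g, hg, e⟩ := hA
  obtain ⟨g', hg', e'⟩ := hB
  exact ⟨g * g', mul_mem hg hg', by rw [Matrix.SpecialLinearGroup.coe_mul, e, e', cm_mul]⟩

theorem Lift.prod {G : Subgroup (Matrix.SpecialLinearGroup (Fin 4) F)} :
    ∀ l : List (Matrix (Fin 4) (Fin 4) ℤ), (∀ A ∈ l, Lift G A) → Lift G l.prod
  | [], _ => ⟨1, one_mem G, by
      ext i j
      fin_cases i <;> fin_cases j <;> simp [cm, Matrix.SpecialLinearGroup.coe_one]⟩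
  | A :: l, h => by
    rw [List.prod_cons]
    exact (h A (List.mem_cons_self ..)).mul (Lift.prod l fun B hB => h B (List.mem_cons_of_mem _ hB))

/-- The word of length 32 whose value is `1 + 6 e₃ (e₀ - e₂)ᵀ`. -/
def word4 : List (Matrix (Fin 4) (Fin 4) ℤ) :=
  [iu, iV, iU, iv, iU, iv, iv, iU, iU, iv, iu, iV, iu, iV, iV, iu,
    iV, iu, iv, iU, iU, iv, iv, iU, iv, iU, iV, iu, iu, iV, iV, iu]

theorem exists_transvection_four [Fintype F]
    {G : Subgroup (Matrix.SpecialLinearGroup (Fin 4) F)} (hJ : J ∈ G) (hT : Jt ∈ G)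
    (h2 : (2 : F) ≠ 0) : ∃ ψ : Fin 4 → F, ψ ≠ 0 ∧ In G (ee F 4 3) ψ := by
  by_cases h3 : (3 : F) = 0
  · refine ⟨ee F 4 0, fun h => by simpa [ee] using congrFun h 0, ?_, Jt * Jt * Jt,
      mul_mem (mul_mem hT hT) hT, ?_⟩
    · rw [ee_dot (show 0 < 4 by omega)]; simp [ee]
    · simp only [Matrix.SpecialLinearGroup.coe_mul, ← cm_iv, ← cm_mul]
      rw [show iv * iv * iv = !![1, 0, 0, 0; 3, 1, 0, 0; 3, 3, 1, 0; 1, 3, 3, 1] by decide]
      ext i j
      fin_cases i <;> fin_cases j <;> simp [cm, tv, ee, Matrix.vecMulVec_apply, h3]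
  · have hU : (cm iU : Matrix (Fin 4) (Fin 4) F) = (J (F := F) (n := 4))⁻¹.1 :=
      cm_inv cm_iu (by decide)
    have hV : (cm iV : Matrix (Fin 4) (Fin 4) F) = (Jt (F := F) (n := 4))⁻¹.1 :=
      cm_inv cm_iv (by decide)
    obtain ⟨g, hg, hgv⟩ := Lift.prod (G := G) word4 (by
      intro A hA
      simp only [word4, List.mem_cons, List.not_mem_nil, or_false] at hA
      have a1 : Lift G iu := ⟨_, hJ, cm_iu.symm⟩
      have a2 : Lift G iU := ⟨_, inv_mem hJ, hU.symm⟩
      have a3 : Lift G iv := ⟨_, hT, cm_iv.symm⟩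
      have a4 : Lift G iV := ⟨_, inv_mem hT, hV.symm⟩
      rcases hA with rfl | rfl | rfl | rfl | rfl | rfl | rfl | rfl | rfl | rfl | rfl | rfl | rfl |
        rfl | rfl | rfl | rfl | rfl | rfl | rfl | rfl | rfl | rfl | rfl | rfl | rfl | rfl | rfl |
        rfl | rfl | rfl | rfl <;> assumption)
    rw [show word4.prod = !![1, 0, 0, 0; 0, 1, 0, 0; 0, 0, 1, 0; 6, 0, -6, 1] by decide +kernel] at hgv
    have h6 : (6 : F) ≠ 0 := by
      rw [show (6 : F) = 2 * 3 by norm_num]; exact mul_ne_zero h2 h3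
    refine ⟨(6 : F) • (ee F 4 0 - ee F 4 2), fun h => h6 (by simpa [ee] using congrFun h 0), ?_, g, hg, ?_⟩
    · rw [dot_ee (show 3 < 4 by omega)]; simp [ee]
    · rw [hgv]
      ext i j
      fin_cases i <;> fin_cases j <;> simp [cm, tv, ee, Matrix.vecMulVec_apply]

theorem exists_two_four_binary [Fintype F] (hp : (Fintype.card F).Prime) (h2 : (2 : F) = 0) :
    ∃ g : Matrix.SpecialLinearGroup (Fin 4) F,
      Subgroup.closure ({J, g * J * g⁻¹} : Set (Matrix.SpecialLinearGroup (Fin 4) F)) = ⊤ := by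
  classical
  let gi : Matrix (Fin 4) (Fin 4) ℤ := !![1, 0, 0, 0; 0, 1, 0, 0; 0, 0, 1, 0; 1, 0, 0, 1]
  let Gi : Matrix (Fin 4) (Fin 4) ℤ := !![1, 0, 0, 0; 0, 1, 0, 0; 0, 0, 1, 0; -1, 0, 0, 1]
  let g : Matrix.SpecialLinearGroup (Fin 4) F :=
    tE (ee F 4 3) (ee F 4 0) (by rw [ee_dot (show 0 < 4 by omega)]; simp [ee])
  have hg : cm gi = g.1 := by
    ext i j
    fin_cases i <;> fin_cases j <;> simp [g, gi, cm, tE, tv, ee, Matrix.vecMulVec_apply]
  have hG : (cm Gi : Matrix (Fin 4) (Fin 4) F) = (g⁻¹).1 := cm_inv hg (by decide)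
  refine ⟨g, top_of_highest (by omega) (Subgroup.subset_closure (by simp)) fun t => ?_⟩
  set G := Subgroup.closure ({J, g * J * g⁻¹} : Set (Matrix.SpecialLinearGroup (Fin 4) F))
  have a1 : Lift G iu := ⟨_, Subgroup.subset_closure (by simp), cm_iu.symm⟩
  have a2 : Lift G (gi * iu * Gi) := ⟨g * J * g⁻¹, Subgroup.subset_closure (by simp), by
    simp only [Matrix.SpecialLinearGroup.coe_mul, cm_mul, hg, hG, cm_iu]⟩
  have a := a1.mul a2
  obtain ⟨x, hx, hxv⟩ :=
    ((((a.mul a).mul (a.mul a)).mul (a.mul a)).mul a).mul a1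
  let M : Matrix (Fin 4) (Fin 4) ℤ := iu * (gi * iu * Gi)
  have hM : ∀ i j, (2 : ℤ) ∣ (M * M * (M * M) * (M * M) * M * iu) i j - gi i j := by decide +kernel
  have : In G (ee F 4 (4 - 1)) (ee F 4 0) := by
    refine ⟨by rw [ee_dot (show 0 < 4 by omega)]; simp [ee], x, hx, ?_⟩
    rw [hxv, show tv (ee F 4 (4 - 1)) (ee F 4 0) = g.1 from rfl, ← hg]
    ext i j
    obtain ⟨k, hk⟩ := hM i j
    have h3 : ((M * M * (M * M) * (M * M) * M * iu) i j : F) = (gi i j : F) := by
      rw [show (M * M * (M * M) * (M * M) * M * iu) i j = gi i j + 2 * k by omega]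
      push_cast
      rw [h2, zero_mul, add_zero]
    simpa [cm] using h3
  have h := all_multiples hp this t
  rwa [show (Pi.single (last (by omega : 0 < 4)) 1 : Fin 4 → F) = ee F 4 (4 - 1) from single_eq_ee _,
    show (Pi.single (⟨0, by omega⟩ : Fin 4) 1 : Fin 4 → F) = ee F 4 0 from single_eq_ee _]

end Four

/-- Two conjugate regular unipotent elements generate `SL_n(p)`, `n ≥ 4`. -/
theorem exists_two_conj [Fintype F] (hp : (Fintype.card F).Prime) (hn : 4 ≤ n) :
    ∃ g : Matrix.SpecialLinearGroup (Fin n) F,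
      Subgroup.closure ({J, g * J * g⁻¹} : Set (Matrix.SpecialLinearGroup (Fin n) F)) = ⊤ := by
  classical
  by_cases h : n = 4 ∧ (2 : F) = 0
  · obtain ⟨rfl, h2⟩ := h
    exact exists_two_four_binary hp h2
  obtain ⟨g, hg⟩ := exists_conj_Jt (F := F) (n := n)
  refine ⟨g, ?_⟩
  set G := Subgroup.closure ({J, g * J * g⁻¹} : Set (Matrix.SpecialLinearGroup (Fin n) F))
  have hJ : J ∈ G := Subgroup.subset_closure (by simp)
  have hT : Jt ∈ G := by
    have : g * J * g⁻¹ ∈ G := Subgroup.subset_closure (by simp)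
    rw [hg] at this
    exact inv_mem_iff.mp this
  obtain ⟨ψ, hψ0, hψ⟩ : ∃ ψ : Fin n → F, ψ ≠ 0 ∧ In G (ee F n (n - 1)) ψ := by
    by_cases h5 : 5 ≤ n
    · exact exists_transvection_word h5 hJ hT
    · obtain rfl : n = 4 := by omega
      exact exists_transvection_four hJ hT fun h2 => h ⟨rfl, h2⟩
  exact top_of_highest (by omega) hJ (highest_of_centre hp (by omega) hT hψ0 hψ)

end Cfsg.Agent.Small.Generation.TwoUnip
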