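import Mathlib

/-!
Choice of the parameters of the lower triangular element `z` with `J z` unipotent regular.
-/

set_option autoImplicit false

namespace Cfsg.Agent.Small.Generation.TwoUnip

open Polynomial

variable {F : Type*} [Field F]

/-- The eigenvector components of the companion-like upper part. -/
noncomputable def fpol (μ : F) : ℕ → F[X]
  | 0 => 1
  | j + 1 => (X - C μ) * (X - 1) ^ j

theorem fpol_monic (μ : F) : ∀ j, (fpol μ j).Monic
  | 0 => monic_one
  | j + 1 => (monic_X_sub_C μ).mul (by simpa using (monic_X_sub_C (1 : F)).pow j)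

theorem fpol_natDegree (μ : F) : ∀ j, (fpol μ j).natDegree = j
  | 0 => natDegree_one
  | j + 1 => by
    have h1 : ((X : F[X]) - 1) ^ j ≠ 0 := pow_ne_zero _ (by simpa using X_sub_C_ne_zero (1 : F))
    rw [fpol, natDegree_mul (X_sub_C_ne_zero μ) h1, natDegree_X_sub_C, natDegree_pow,
      show ((X : F[X]) - 1) = X - C 1 by rw [map_one], natDegree_X_sub_C]
    omega

theorem exists_expansion (μ : F) :
    ∀ (m : ℕ) (P : F[X]), P.natDegree ≤ m →
      ∃ ρ : ℕ → F, P = ∑ j ∈ Finset.range (m + 1), C (ρ j) * fpol μ j := by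
  intro m
  induction m with
  | zero =>
    intro P hP
    exact ⟨fun _ => P.coeff 0, by
      rw [Finset.sum_range_one, fpol, mul_one]; exact eq_C_of_natDegree_le_zero hP⟩
  | succ m ih =>
    intro P hP
    set c := P.coeff (m + 1)
    have hd : (P - C c * fpol μ (m + 1)).natDegree ≤ m := by
      rw [natDegree_le_iff_coeff_eq_zero]
      intro k hk
      rw [coeff_sub, coeff_C_mul]
      rcases Nat.eq_or_lt_of_le (Nat.succ_le_of_lt hk) with rfl | h
      · have : (fpol μ (m + 1)).coeff (m + 1) = 1 := by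
          have := (fpol_monic μ (m + 1)).coeff_natDegree
          rwa [fpol_natDegree] at this
        rw [Nat.succ_eq_add_one, this, mul_one, sub_self]
      · rw [coeff_eq_zero_of_natDegree_lt (by omega), coeff_eq_zero_of_natDegree_lt
          (by rw [fpol_natDegree]; omega), mul_zero, sub_zero]
    obtain ⟨ρ, hρ⟩ := ih _ hd
    refine ⟨Function.update ρ (m + 1) c, ?_⟩
    rw [Finset.sum_range_succ, Function.update_self,
      Finset.sum_congr rfl fun j hj => by
        rw [Function.update_of_ne (by rw [Finset.mem_range] at hj; omega)],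
      ← hρ, sub_add_cancel]

/-- Existence of the parameters `s`, `r`, `ρ` of the twist. -/
theorem exists_params (m : ℕ) (μ δ : F) (hμδ : μ * δ = 1) (hμ : μ ≠ 1) :
    ∃ (s r : F) (ρ : ℕ → F),
      (X - C μ) * (C δ * ((X - C δ) * (C μ * ((X - C δ) *
          (C μ * (fpol μ (m + 1) - C r * fpol μ m)) - C r * fpol μ m
          - ∑ j ∈ Finset.range (m + 1), C (ρ j) * fpol μ j))
          - ∑ j ∈ Finset.range (m + 1), C (ρ j) * fpol μ j - C s)) - C s
        = C μ * (X - 1) ^ (m + 4) ∧
      s ≠ 0 ∧ (m = 0 → r = 4 - 2 * μ - 2 * δ) := by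
  set Y : F[X] := X - 1 with hY
  set A : F[X] := (X - C μ) ^ 2 * (X - C δ) ^ 2 * Y ^ m with hA
  set G : F[X] := A - Y ^ (m + 4) with hG
  have hYm : Y.Monic := by simpa [hY] using monic_X_sub_C (1 : F)
  have hYd : Y.natDegree = 1 := by rw [hY, ← map_one (C : F →+* F[X]), natDegree_X_sub_C]
  have hAm : A.Monic :=
    (((monic_X_sub_C μ).pow 2).mul ((monic_X_sub_C δ).pow 2)).mul (hYm.pow m)
  have hAd : A.natDegree = m + 4 := by
    rw [hA, Monic.natDegree_mul (((monic_X_sub_C μ).pow 2).mul ((monic_X_sub_C δ).pow 2)) (hYm.pow m),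
      Monic.natDegree_mul ((monic_X_sub_C μ).pow 2) ((monic_X_sub_C δ).pow 2), natDegree_pow,
      natDegree_pow, natDegree_pow, natDegree_X_sub_C, natDegree_X_sub_C, hYd]
    omega
  have hGd : G.natDegree ≤ m + 3 := by
    rw [natDegree_le_iff_coeff_eq_zero]
    intro k hk
    rw [hG, coeff_sub]
    rcases Nat.eq_or_lt_of_le (show m + 4 ≤ k by omega) with rfl | h
    · have h1 := hAm.coeff_natDegree
      have h2 := (hYm.pow (m + 4)).coeff_natDegree
      rw [hAd] at h1
      rw [natDegree_pow, hYd, mul_one] at h2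
      rw [h1, h2, sub_self]
    · rw [coeff_eq_zero_of_natDegree_lt (by omega), coeff_eq_zero_of_natDegree_lt
        (by rw [natDegree_pow, hYd]; omega), sub_zero]
  have hX : X ∣ G := by
    rw [X_dvd_iff, coeff_zero_eq_eval_zero, hG, hA, hY]
    simp only [eval_sub, eval_mul, eval_pow, eval_X, eval_C, eval_one, zero_sub, neg_sq]
    have e : μ ^ 2 * δ ^ 2 = 1 := by rw [← mul_pow, hμδ, one_pow]
    rw [e]
    ring
  obtain ⟨H, hH⟩ := hX
  have hHd : H.natDegree ≤ m + 2 := by
    rcases eq_or_ne H 0 with h | h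
    · simp [h]
    · have := hGd; rw [hH, natDegree_mul X_ne_zero h, natDegree_X] at this; omega
  obtain ⟨K, hK⟩ : (X - C μ) ∣ (H - C (H.eval μ)) := dvd_iff_isRoot.mpr (by simp)
  have hKd : K.natDegree ≤ m + 1 := by
    rcases eq_or_ne K 0 with h | h
    · simp [h]
    · have h1 : (H - C (H.eval μ)).natDegree ≤ m + 2 := by rw [natDegree_sub_C]; exact hHd
      rw [hK, natDegree_mul (X_sub_C_ne_zero μ) h, natDegree_X_sub_C] at h1
      omega
  set r := K.coeff (m + 1) with hr
  set P0 : F[X] := K - C r * ((X - C δ) * fpol μ m) with hP0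
  have hQm : ((X - C δ) * fpol μ m).Monic := (monic_X_sub_C δ).mul (fpol_monic μ m)
  have hQd : ((X - C δ) * fpol μ m).natDegree = m + 1 := by
    rw [Monic.natDegree_mul (monic_X_sub_C δ) (fpol_monic μ m), natDegree_X_sub_C, fpol_natDegree]
    omega
  have hP0d : P0.natDegree ≤ m := by
    rw [natDegree_le_iff_coeff_eq_zero]
    intro k hk
    rw [hP0, coeff_sub, coeff_C_mul]
    rcases Nat.eq_or_lt_of_le (show m + 1 ≤ k by omega) with rfl | h
    · have h1 := hQm.coeff_natDegree
      rw [hQd] at h1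
      rw [h1, mul_one, sub_self]
    · rw [coeff_eq_zero_of_natDegree_lt (by omega), coeff_eq_zero_of_natDegree_lt
        (by rw [hQd]; omega), mul_zero, sub_zero]
  obtain ⟨ρ, hρ⟩ := exists_expansion μ m (C μ * P0) ((natDegree_C_mul_le μ P0).trans hP0d)
  refine ⟨μ ^ 2 * H.eval μ, r, ρ, ?_, ?_, ?_⟩
  · rw [← hρ]
    have e1 : C μ * C δ = (1 : F[X]) := by rw [← map_mul, hμδ, map_one]
    have eF : fpol μ (m + 1) = (X - C μ) * Y ^ m := rfl
    have eP : P0 = K - C r * ((X - C δ) * fpol μ m) := hP0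
    have eG : A = Y ^ (m + 4) + X * H := by rw [← hH, hG]; ring
    simp only [map_mul, map_pow]
    rw [eF, eP]
    rw [hA] at eG
    linear_combination (C μ) * eG + (C μ * X) * hK + ((X - C μ) * (X - C δ) *
      ((X - C δ) * (C μ * ((X - C μ) * Y ^ m - C r * fpol μ m)) - C r * fpol μ m
        - C μ * (K - C r * ((X - C δ) * fpol μ m)))
      - (X - C μ) * (K - C r * ((X - C δ) * fpol μ m)) - (X - C μ) * C μ * C (H.eval μ)
      + (X - C μ) * K) * e1
  · have h1 := congrArg (eval μ) hH
    rw [hG, hA] at h1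
    simp [hY] at h1
    intro h2
    rcases mul_eq_zero.mp h2 with h3 | h3
    · rw [pow_eq_zero_iff two_ne_zero] at h3
      rw [h3, zero_mul] at hμδ
      exact zero_ne_one hμδ
    · rw [h3, mul_zero, neg_eq_zero, pow_eq_zero_iff (by omega), sub_eq_zero] at h1
      exact hμ h1
  · intro hm
    subst hm
    have e3 : G = C (4 - 2 * μ - 2 * δ) * X ^ 3 + C (μ ^ 2 + δ ^ 2 + 4 * μ * δ - 6) * X ^ 2
        + C (4 - 2 * μ * δ * (μ + δ)) * X + C (μ ^ 2 * δ ^ 2 - 1) := by
      rw [hG, hA, hY]
      simp only [map_add, map_sub, map_mul, map_pow, map_ofNat, map_one]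
      ring
    have h1 : G.coeff 3 = 4 - 2 * μ - 2 * δ := by
      rw [e3]
      simp only [coeff_add, coeff_C_mul, coeff_X_pow, coeff_X, coeff_C]
      simp
    have h2 : H.coeff 2 = K.coeff 1 - μ * K.coeff 2 := by
      have := congrArg (fun p : F[X] => p.coeff 2) hK
      simp only [coeff_sub, coeff_C, sub_mul, coeff_C_mul] at this
      simp [coeff_X_mul] at this
      exact this
    rw [hH, coeff_X_mul, h2, coeff_eq_zero_of_natDegree_lt (show K.natDegree < 2 by omega),
      mul_zero, sub_zero] at h1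
    simpa [hr] using h1

end Cfsg.Agent.Small.Generation.TwoUnip
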