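import Mathlib
import Cfsg.Agent.Lib.Small.Generation.TwoUnipotent.Jordan
import Cfsg.Agent.Lib.Small.Generation.TwoUnipotent.Poly

/-!
For a field element `μ` generating `Fˣ` (outside the cases `μ ∈ {1, -1, 3}`) there is a lower
triangular `z` such that `J z` is regular unipotent and a power of `z` is the lowest-root
transvection; `⟨J, J z⟩ = SL_n(F)`.
-/

set_option autoImplicit false
set_option linter.unusedSectionVars false

namespace Cfsg.Agent.Small.Generation.TwoUnip

open Matrix Generation Polynomial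

variable {F : Type*} [Field F] {n : ℕ}

theorem addSubgroup_top_of_squares [Fintype F] (H : AddSubgroup F) (h : ∀ w : F, w * w ∈ H)
    (x : F) : x ∈ H := by
  by_cases h2 : (2 : F) = 0
  · have hF : ringChar F = 2 := by
      have hd : ringChar F ∣ 2 := ringChar.dvd (by exact_mod_cast h2)
      exact (Nat.prime_dvd_prime_iff_eq (CharP.char_is_prime F (ringChar F)) Nat.prime_two).mp hd
    obtain ⟨w, hw⟩ := FiniteField.isSquare_of_char_two hF x
    rw [hw]; exact h w
  · have : x = ((x + 1) / 2) * ((x + 1) / 2) - ((x - 1) / 2) * ((x - 1) / 2) := by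
      field_simp; ring
    rw [this]; exact H.sub_mem (h _) (h _)

variable {G : Subgroup (Matrix.SpecialLinearGroup (Fin n) F)}

/-- From one transvection `(e_L, e_0ᵀ)` to all of them, using a twist `z`. -/
theorem highest_of_twist [Fintype F] (hn : 4 ≤ n) (hJ : J ∈ G)
    {z : Matrix.SpecialLinearGroup (Fin n) F} (hz : z ∈ G) {μ α β a : F} (hμ : μ ≠ 0) (hα : α ≠ 0)
    (hzL : z.1 *ᵥ (Pi.single (last (by omega : 0 < n)) 1 : Fin n → F) =
      μ • Pi.single (last (by omega : 0 < n)) 1)
    (hz0 : (Pi.single (⟨0, by omega⟩ : Fin n) 1 : Fin n → F) ᵥ* z.1 =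
      μ • Pi.single (⟨0, by omega⟩ : Fin n) 1)
    (hz1 : (Pi.single (⟨1, by omega⟩ : Fin n) 1 : Fin n → F) ᵥ* z.1 =
      α • Pi.single (⟨1, by omega⟩ : Fin n) 1 + β • Pi.single (⟨0, by omega⟩ : Fin n) 1)
    (hν : ∀ w : F, w ≠ 0 → ∃ k : ℕ, (μ / α) ^ k = w * w)
    (hgood : 1 - μ / α + -β / α ≠ 0) (ha : a ≠ 0)
    (hx : In G (a • Pi.single (last (by omega : 0 < n)) 1)
      (Pi.single (⟨0, by omega⟩ : Fin n) 1)) :
    ∀ t : F, In G (t • Pi.single (last (by omega : 0 < n)) 1)
      (Pi.single (⟨0, by omega⟩ : Fin n) 1) := by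
  classical
  set L := last (by omega : 0 < n)
  set i0 : Fin n := ⟨0, by omega⟩
  set i1 : Fin n := ⟨1, by omega⟩
  set eL : Fin n → F := Pi.single L 1
  set φ : Fin n → F := Pi.single i0 1
  set ψ : Fin n → F := Pi.single i1 1
  set ν := μ / α with hνd
  set η := -β / α with hηd
  let P : F → F → Prop := fun x y => In G eL (x • φ + y • ψ)
  have hPadd : ∀ x y x' y', P x y → P x' y' → P (x + x') (y + y') := fun x y x' y' h h' => by
    have := TwoUnip.In.add_right h h'
    change In G eL _
    convert this using 1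
    module
  have hPneg : ∀ x y, P x y → P (-x) (-y) := fun x y h => by
    have h1 := TwoUnip.In.right (G := G) (neg_ne_zero.mpr one_ne_zero) (a := eL) (k := (-1 : F))
      (φ := x • φ + y • ψ) (by rw [neg_one_smul]; exact h.neg)
    change In G eL _
    convert h1 using 1
    module
  have hT : ∀ x y, P x y → P (x + η * y) (ν * y) := by
    intro x y h
    have h1 := In.conj h hz
    rw [hzL, vecMul_inv z (x := ((x - β * (y / α)) / μ) • φ + (y / α) • ψ) (y := x • φ + y • ψ) (by
      rw [Matrix.add_vecMul, Matrix.smul_vecMul, Matrix.smul_vecMul, hz0, hz1, smul_add, smul_smul,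
        smul_smul, smul_smul]
      rw [div_mul_cancel₀ _ hμ, div_mul_cancel₀ _ hα, sub_smul, mul_comm (y / α) β]
      abel)] at h1
    have h2 := TwoUnip.In.right hμ h1
    change In G eL _
    convert h2 using 1
    rw [smul_add, smul_smul, smul_smul, hνd, hηd]
    congr 2 <;> field_simp
    ring
  have hP0 : P a 0 := by
    change In G eL _
    rw [zero_smul, add_zero]
    exact TwoUnip.In.right ha hx
  set g := φ ⬝ᵥ cvec F n with hg
  have hg0 : g ≠ 0 := by simp [g, φ, cvec]
  have hg1 : ψ ⬝ᵥ cvec F n = -g := by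
    simp only [g, φ, ψ, single_dotProduct, one_mul, cvec, i0, i1, Nat.sub_zero]
    rw [show n - 1 = (n - 1 - 1) + 1 by omega, pow_succ, Nat.add_sub_cancel]
    ring
  have hφJ : φ ᵥ* (J (F := F) (n := n)).1 = φ + ψ := by
    funext j
    rw [J_coe, vecMul_jm, Pi.add_apply]
    congr 1
    simp only [φ, ψ, i0, i1, Pi.single_apply, Fin.ext_iff]
    split_ifs <;> first
      | (rw [ev_lt _ (by omega)]; simp only [Pi.single_apply, Fin.ext_iff]; split_ifs <;>
          first | rfl | (exfalso; omega))
      | rfl | (exfalso; omega)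
  have hEc : In G (a • cvec F n) (φ + ψ) := by
    have h1 := hx.conj (inv_mem hJ)
    rwa [Matrix.mulVec_smul, inv_inv, J_inv_last, hφJ] at h1
  have hEL : (φ + ψ) ⬝ᵥ eL = 0 := by
    have h0 : i0 ≠ L := Fin.ne_of_val_ne (by simp [i0, L, last]; omega)
    have h1 : i1 ≠ L := Fin.ne_of_val_ne (by simp [i1, L, last]; omega)
    simp [φ, ψ, eL, h0, h1]
  set k := a * a * g with hk
  have hk0 : k ≠ 0 := by simp [hk, ha, hg0]
  have hPk : P k k := by
    have h1 := hEc.comm hx (by rw [dotProduct_smul, hEL, smul_zero])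
    rw [dotProduct_smul, smul_eq_mul, smul_smul, ← hg, show a * g * a = k by rw [hk]; ring] at h1
    change In G eL _
    rw [← smul_add]
    exact TwoUnip.In.right hk0 h1
  let W : AddSubgroup F :=
    { carrier := {w | P (η * w) ((ν - 1) * w)}
      zero_mem' := by
        change In G eL _
        simp only [mul_zero, zero_smul, add_zero]
        exact In.zero_right _
      add_mem' := fun {x y} hx hy => by
        have := hPadd _ _ _ _ hx hy
        simpa [mul_add] using this
      neg_mem' := fun {x} hx => by simpa using hPneg _ _ hx }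
  have hWk : k ∈ W := by
    have h1 := hPadd _ _ _ _ (hT _ _ hPk) (hPneg _ _ hPk)
    change P _ _
    convert h1 using 1 <;> ring
  have hWν : ∀ w ∈ W, ν * w ∈ W := fun w hw => by
    have h1 := hT _ _ hw
    change P _ _
    convert h1 using 1 <;> ring
  have hWall : ∀ x : F, x ∈ W := by
    intro x
    have hpow : ∀ m : ℕ, ν ^ m * k ∈ W := fun m => by
      induction m with
      | zero => rwa [pow_zero, one_mul]
      | succ m ih => rw [pow_succ', mul_assoc]; exact hWν _ ih
    have := addSubgroup_top_of_squares (W.comap (AddMonoidHom.mulRight k)) (fun w => by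
      change w * w * k ∈ W
      rcases eq_or_ne w 0 with rfl | hw
      · simp
      · obtain ⟨m, hm⟩ := hν w hw
        rw [← hm]; exact hpow m) (x / k)
    change x / k * k ∈ W at this
    rwa [div_mul_cancel₀ _ hk0] at this
  have hEt : ∀ t : F, P t t := by
    intro t
    rcases eq_or_ne t 0 with rfl | ht
    · change In G eL _
      simp only [zero_smul, add_zero]
      exact In.zero_right _
    set c := (η - (ν - 1)) * (a * g) with hc
    have hc0 : c ≠ 0 := by
      refine mul_ne_zero ?_ (mul_ne_zero ha hg0)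
      intro h; apply hgood; rw [← h]; ring
    have h1 := hEc.comm (hWall (t / c)) hEL
    rw [add_dotProduct, smul_dotProduct, smul_dotProduct, dotProduct_smul, dotProduct_smul, hg1,
      ← hg, smul_eq_mul, smul_eq_mul, smul_eq_mul, smul_eq_mul,
      show η * (t / c) * (a * g) + (ν - 1) * (t / c) * (a * -g) = t by
        rw [show η * (t / c) * (a * g) + (ν - 1) * (t / c) * (a * -g) = (t / c) * c by rw [hc]; ring,
          div_mul_cancel₀ _ hc0]] at h1
    change In G eL _
    rw [← smul_add]
    exact TwoUnip.In.right ht h1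
  intro t
  rcases eq_or_ne t 0 with rfl | ht
  · rw [zero_smul]; exact In.zero_left φ
  have h1 := hPadd _ _ _ _ (hWall (t / (η - (ν - 1))))
    (hPneg _ _ (hEt ((ν - 1) * (t / (η - (ν - 1))))))
  have hd : η - (ν - 1) ≠ 0 := fun h => hgood (by rw [← h]; ring)
  have h2 : In G eL (t • φ) := by
    change In G eL _ at h1
    convert h1 using 1
    rw [add_neg_cancel, zero_smul, add_zero]
    congr 1
    field_simp
    ring
  exact TwoUnip.In.left ht h2

section Construction

variable (m : ℕ) (μ δ s r : F) (ρ : ℕ → F)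

/-- Diagonal of the twist. -/
def zd (i : Fin (m + 4)) : F :=
  if (i : ℕ) = 0 ∨ (i : ℕ) = m + 3 then μ else if (i : ℕ) = m + 1 ∨ (i : ℕ) = m + 2 then δ else 1

/-- Off-diagonal part in the rows `m+1`, `m+2`. -/
def zr : Matrix (Fin (m + 4)) (Fin (m + 4)) F := Matrix.of fun i j =>
  if (i : ℕ) = m + 1 ∧ (j : ℕ) = m then r
  else if (i : ℕ) = m + 2 ∧ (j : ℕ) ≤ m then ρ j else 0

/-- The corner unit matrix. -/
def ze : Matrix (Fin (m + 4)) (Fin (m + 4)) F := Matrix.of fun i j =>
  if (i : ℕ) = m + 3 ∧ (j : ℕ) = 0 then 1 else 0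

/-- The twist as a matrix. -/
def zmat : Matrix (Fin (m + 4)) (Fin (m + 4)) F :=
  Matrix.diagonal (zd m μ δ) + zr m r ρ + s • ze m

variable {m μ δ s r ρ}

theorem zmat_upper (i j : Fin (m + 4)) (h : (i : ℕ) < j) : zmat m μ δ s r ρ i j = 0 := by
  simp only [zmat, Matrix.add_apply, Matrix.smul_apply, zr, ze, Matrix.of_apply,
    Matrix.diagonal_apply_ne _ (Fin.ne_of_val_ne (by omega) : i ≠ j), smul_eq_mul]
  rw [if_neg (by omega), if_neg (by omega), if_neg (by omega)]
  ring

theorem zmat_diag (i : Fin (m + 4)) : zmat m μ δ s r ρ i i = zd m μ δ i := by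
  simp only [zmat, Matrix.add_apply, Matrix.smul_apply, zr, ze, Matrix.of_apply,
    Matrix.diagonal_apply_eq, smul_eq_mul]
  rw [if_neg (by omega), if_neg (by omega), if_neg (by omega)]
  ring

theorem zmat_det (hμδ : μ * δ = 1) : (zmat m μ δ s r ρ).det = 1 := by
  rw [Matrix.det_of_isLowerTriangular]
  · let f : ℕ → F := fun i =>
      if i = 0 ∨ i = m + 3 then μ else if i = m + 1 ∨ i = m + 2 then δ else 1
    rw [Finset.prod_congr rfl fun i _ => zmat_diag i,
      show (∏ i : Fin (m + 4), zd m μ δ i) = ∏ i : Fin (m + 4), f i from rfl,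
      Fin.prod_univ_eq_prod_range f, Finset.prod_range_succ, Finset.prod_range_succ,
      Finset.prod_range_succ, Finset.prod_range_succ', Finset.prod_eq_one fun i hi => ?_]
    · have f0 : f 0 = μ := if_pos (Or.inl rfl)
      have f1 : f (m + 1) = δ := by simp [f]
      have f2 : f (m + 2) = δ := by simp [f]
      have f3 : f (m + 3) = μ := by simp [f]
      rw [f0, f1, f2, f3, one_mul, show μ * δ * δ * μ = (μ * δ) * (μ * δ) by ring, hμδ, one_mul]
    · rw [Finset.mem_range] at hi
      simp only [f]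
      rw [if_neg (by omega), if_neg (by omega)]
  · intro i j hij
    exact zmat_upper i j (by simpa using hij)

theorem zr_mul_eq_zero : zr m r ρ * zr m r ρ = 0 := by
  ext i j
  rw [Matrix.mul_apply, Matrix.zero_apply]
  refine Finset.sum_eq_zero fun k _ => ?_
  simp only [zr, Matrix.of_apply]
  rcases le_or_gt (k : ℕ) m with h | h
  · rw [if_neg (c := (k : ℕ) = m + 1 ∧ _) (by omega), if_neg (c := (k : ℕ) = m + 2 ∧ _) (by omega),
      mul_zero]
  · rw [if_neg (c := _ ∧ (k : ℕ) = m) (by omega), if_neg (c := _ ∧ (k : ℕ) ≤ m) (by omega), zero_mul]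

/-- A power of the twist is a transvection. -/
theorem zmat_pow [Fintype F] (hμ : μ ≠ 0) (hδ : δ ≠ 0) (hδ1 : δ ≠ 1) (hδμ : δ ≠ μ) :
    zmat m μ δ s r ρ ^ (Fintype.card F - 1) = 1 + (-(s / μ)) • ze m := by
  classical
  set D := Matrix.diagonal (zd m μ δ) with hD
  set R := zr m r ρ with hR
  set E : Matrix (Fin (m + 4)) (Fin (m + 4)) F := ze m with hE
  let S : Matrix (Fin (m + 4)) (Fin (m + 4)) F := Matrix.of fun i j =>
    R i j / (zd m μ δ j - zd m μ δ i)
  have hd : ∀ i j : Fin (m + 4), R i j ≠ 0 → zd m μ δ j - zd m μ δ i ≠ 0 := by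
    intro i j h
    have hij : ((i : ℕ) = m + 1 ∨ (i : ℕ) = m + 2) ∧ (j : ℕ) ≤ m := by
      simp only [hR, zr, Matrix.of_apply] at h
      split_ifs at h with h1 h2
      · exact ⟨Or.inl h1.1, h1.2.le⟩
      · exact ⟨Or.inr h2.1, h2.2⟩
      · exact absurd rfl h
    simp only [zd]
    rw [if_neg (c := (i : ℕ) = 0 ∨ _) (by omega), if_pos hij.1]
    rw [sub_ne_zero]
    split_ifs with h1 h2
    · exact Ne.symm hδμ
    · omega
    · exact Ne.symm hδ1
  have hR0 : ∀ i j : Fin (m + 4), ((i : ℕ) ≤ m ∨ m < (j : ℕ)) → R i j = 0 := by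
    intro i j h
    simp only [hR, zr, Matrix.of_apply]
    rw [if_neg (by omega), if_neg (by omega)]
  have hRS : R * S = 0 := by
    ext i j
    rw [Matrix.mul_apply, Matrix.zero_apply]
    refine Finset.sum_eq_zero fun k _ => ?_
    rcases le_or_gt (k : ℕ) m with h | h
    · simp [S, hR0 k j (Or.inl h)]
    · simp [hR0 i k (Or.inr h)]
  have hSS : S * S = 0 := by
    ext i j
    rw [Matrix.mul_apply, Matrix.zero_apply]
    refine Finset.sum_eq_zero fun k _ => ?_
    rcases le_or_gt (k : ℕ) m with h | h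
    · simp [S, hR0 k j (Or.inl h)]
    · simp [S, hR0 i k (Or.inr h)]
  have hconj : (D + R) * (1 + S) = (1 + S) * D := by
    rw [add_mul, mul_add, mul_add, mul_one, mul_one, hRS, add_zero, add_mul, one_mul, add_assoc,
      add_right_inj]
    ext i j
    rw [Matrix.add_apply, hD, Matrix.diagonal_mul, Matrix.mul_diagonal]
    simp only [S, Matrix.of_apply]
    rcases eq_or_ne (R i j) 0 with h | h
    · simp [h]
    · have := hd i j h
      field_simp
      ring
  have hs : ∀ k : ℕ, (D + R) ^ k = (1 + S) * D ^ k * (1 - S) := by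
    intro k
    have h1 : (D + R) ^ k * (1 + S) = (1 + S) * D ^ k := by
      induction k with
      | zero => simp
      | succ k ih => rw [pow_succ, mul_assoc, hconj, ← mul_assoc, ih, pow_succ, mul_assoc]
    rw [← h1, mul_assoc, show (1 + S) * (1 - S) = 1 by
      rw [mul_sub, mul_one, add_mul, one_mul, hSS, add_zero, add_sub_cancel_right], mul_one]
  have hDk : D ^ (Fintype.card F - 1) = 1 := by
    rw [hD, Matrix.diagonal_pow, ← Matrix.diagonal_one]
    congr 1
    funext i
    rw [Pi.pow_apply]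
    apply FiniteField.pow_card_sub_one_eq_one
    simp only [zd]
    split_ifs <;> first | exact hμ | exact hδ | exact one_ne_zero
  have hER : (D + R) * E = μ • E ∧ E * (D + R) = μ • E ∧ E * E = 0 := by
    refine ⟨?_, ?_, ?_⟩ <;> ext i j
    · rw [add_mul, Matrix.add_apply, hD, Matrix.diagonal_mul, Matrix.mul_apply,
        Finset.sum_eq_zero fun k _ => ?_, add_zero, Matrix.smul_apply]
      · simp only [hE, ze, Matrix.of_apply, zd, smul_eq_mul]
        by_cases h : (i : ℕ) = m + 3 ∧ (j : ℕ) = 0
        · rw [if_pos (Or.inr h.1)]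
        · rw [if_neg h, mul_zero, mul_zero]
      · simp only [hE, ze, Matrix.of_apply]
        rcases le_or_gt (k : ℕ) m with h | h
        · rw [if_neg (c := (k : ℕ) = m + 3 ∧ _) (by omega), mul_zero]
        · rw [hR0 i k (Or.inr h), zero_mul]
    · rw [mul_add, Matrix.add_apply, hD, Matrix.mul_diagonal, Matrix.mul_apply,
        Finset.sum_eq_zero fun k _ => ?_, add_zero, Matrix.smul_apply]
      · simp only [hE, ze, Matrix.of_apply, zd, smul_eq_mul]
        by_cases h : (i : ℕ) = m + 3 ∧ (j : ℕ) = 0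
        · rw [if_pos h, if_pos (Or.inl h.2)]; ring
        · rw [if_neg h, mul_zero, zero_mul]
      · simp only [hE, ze, Matrix.of_apply]
        by_cases h : (k : ℕ) = 0
        · rw [hR0 k j (Or.inl (by omega)), mul_zero]
        · rw [if_neg (by omega), zero_mul]
    · rw [Matrix.mul_apply, Matrix.zero_apply]
      refine Finset.sum_eq_zero fun k _ => ?_
      simp only [hE, ze, Matrix.of_apply]
      by_cases h : (k : ℕ) = 0
      · rw [if_neg (c := (k : ℕ) = m + 3 ∧ _) (by omega), mul_zero]
      · rw [if_neg (c := _ ∧ (k : ℕ) = 0) (by omega), zero_mul]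
  obtain ⟨e1, e2, e3⟩ := hER
  have hpow : ∀ k : ℕ, (D + R + s • E) ^ (k + 1) =
      (D + R) ^ (k + 1) + (((k : F) + 1) * s * μ ^ k) • E := by
    intro k
    induction k with
    | zero => simp
    | succ k ih =>
      have e4 : (D + R) ^ (k + 1) * E = (μ ^ (k + 1)) • E := by
        clear ih
        induction k with
        | zero => rw [pow_one, pow_one, e1]
        | succ k ih => rw [pow_succ, mul_assoc, e1, Matrix.mul_smul, ih, smul_smul, pow_succ μ (k + 1), mul_comm μ]
      rw [pow_succ, ih, add_mul, mul_add, ← pow_succ, Matrix.mul_smul, e4, Matrix.smul_mul, mul_add,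
        e2, Matrix.mul_smul, e3, smul_zero, add_zero, smul_smul, smul_smul, add_assoc, ← add_smul]
      congr 2
      push_cast
      ring
  have hq : 1 < Fintype.card F := Fintype.one_lt_card
  obtain ⟨k, hk⟩ : ∃ k, Fintype.card F - 1 = k + 1 := ⟨Fintype.card F - 2, by omega⟩
  have hkF : (k : F) + 1 = -1 := by
    have h1 : (((k + 1) + 1 : ℕ) : F) = 0 := by
      rw [show k + 1 + 1 = Fintype.card F by omega, FiniteField.cast_card_eq_zero]
    push_cast at h1
    linear_combination h1
  have hμk : μ ^ k = μ⁻¹ := by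
    apply eq_inv_of_mul_eq_one_left
    rw [← pow_succ, ← hk, FiniteField.pow_card_sub_one_eq_one μ hμ]
  rw [zmat, ← hD, ← hR, ← hE, hk, hpow, ← hk, hs, hDk, mul_one, hkF, hμk]
  rw [show (1 + S) * (1 - S) = 1 by
    rw [mul_sub, mul_one, add_mul, one_mul, hSS, add_zero, add_sub_cancel_right]]
  congr 2
  field_simp

/-- The twisted product `J z` has characteristic polynomial `(X - 1) ^ n`. -/
theorem charpoly_twist (_hμ : μ ≠ 0) (hμδ : μ * δ = 1)
    (hQ : (X - C μ) * (C δ * ((X - C δ) * (C μ * ((X - C δ) *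
          (C μ * (fpol μ (m + 1) - C r * fpol μ m)) - C r * fpol μ m
          - ∑ j ∈ Finset.range (m + 1), C (ρ j) * fpol μ j))
          - ∑ j ∈ Finset.range (m + 1), C (ρ j) * fpol μ j - C s)) - C s
        = C μ * (X - 1) ^ (m + 4)) :
    (jm F (m + 4) * zmat m μ δ s r ρ).charpoly = (X - 1) ^ (m + 4) := by
  classical
  set Sρ : F[X] := ∑ j ∈ Finset.range (m + 1), Polynomial.C (ρ j) * fpol μ j with hSρ
  set A1 : F[X] := Polynomial.C μ * (fpol μ (m + 1) - Polynomial.C r * fpol μ m) with hA1
  set A2 : F[X] := Polynomial.C μ * ((Polynomial.X - Polynomial.C δ) * A1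
    - Polynomial.C r * fpol μ m - Sρ) with hA2
  set A3 : F[X] := Polynomial.C δ * ((Polynomial.X - Polynomial.C δ) * A2 - Sρ - Polynomial.C s) with hA3
  let gf : ℕ → F[X] := fun i =>
    if i ≤ m then fpol μ i else if i = m + 1 then A1 else if i = m + 2 then A2 else A3
  let g : Fin (m + 4) → F[X] := fun i => gf i
  let zf : ℕ → F[X] := fun i =>
    if i = 0 then Polynomial.C μ else if i ≤ m then fpol μ i
    else if i = m + 1 then Polynomial.C r * fpol μ m + Polynomial.C δ * A1
    else if i = m + 2 then Sρ + Polynomial.C δ * A2 else Polynomial.C s + Polynomial.C μ * A3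
  have hzg : ∀ i : Fin (m + 4),
      ((zmat m μ δ s r ρ).map Polynomial.C *ᵥ g) i = zf i := by
    intro i
    have hterm : ∀ j : Fin (m + 4), (zmat m μ δ s r ρ).map Polynomial.C i j * g j =
        (if j = i then Polynomial.C (zd m μ δ i) * g i else 0)
        + Polynomial.C (zr m r ρ i j) * g j + Polynomial.C (s * ze (F := F) m i j) * g j := fun j => by
      rcases eq_or_ne j i with rfl | h
      · simp [zmat, Matrix.diagonal_apply_eq]; ring
      · rw [if_neg h]
        simp [zmat, Matrix.diagonal_apply_ne _ (Ne.symm h)]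
        ring
    rw [Matrix.mulVec, dotProduct, Finset.sum_congr rfl fun j _ => hterm j, Finset.sum_add_distrib,
      Finset.sum_add_distrib, Finset.sum_ite_eq' Finset.univ i, if_pos (Finset.mem_univ _)]
    have hrs : ∑ j, Polynomial.C (s * ze (F := F) m i j) * g j =
        if (i : ℕ) = m + 3 then Polynomial.C s else 0 := by
      rw [Finset.sum_eq_single (⟨0, by omega⟩ : Fin (m + 4))]
      · simp only [ze, Matrix.of_apply, and_true, g, gf]
        rw [if_pos (Nat.zero_le m)]
        split_ifs <;> simp [fpol]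
      · intro b _ hb
        have : (b : ℕ) ≠ 0 := fun h => hb (Fin.ext h)
        simp only [ze, Matrix.of_apply]
        rw [if_neg (fun h => this h.2)]
        simp
      · simp
    have hrr : ∑ j, Polynomial.C (zr m r ρ i j) * g j =
        if (i : ℕ) = m + 1 then Polynomial.C r * fpol μ m else if (i : ℕ) = m + 2 then Sρ else 0 := by
      split_ifs with h1 h2
      · rw [Finset.sum_eq_single (⟨m, by omega⟩ : Fin (m + 4))]
        · simp [zr, h1, g, gf]
        · intro b _ hb
          have : (b : ℕ) ≠ m := fun h => hb (Fin.ext h)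
          simp [zr, h1, this]
        · simp
      · let hfun : ℕ → F[X] := fun j => if j ≤ m then Polynomial.C (ρ j) * fpol μ j else 0
        rw [Finset.sum_congr rfl (g := fun j : Fin (m + 4) => hfun j) fun j _ => by
          by_cases hj : (j : ℕ) ≤ m <;> simp [zr, h2, hfun, g, gf, hj]]
        rw [Fin.sum_univ_eq_sum_range hfun, hSρ,
          ← Finset.sum_subset (Finset.range_mono (show m + 1 ≤ m + 4 by omega)) fun x hx1 hx2 => by
            simp only [Finset.mem_range] at hx1 hx2
            simp only [hfun]; rw [if_neg (by omega)]]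
        refine Finset.sum_congr rfl fun x hx => ?_
        rw [Finset.mem_range] at hx
        simp only [hfun]; rw [if_pos (by omega)]
      · refine Finset.sum_eq_zero fun j _ => ?_
        simp [zr, h1, h2]
    rw [hrs, hrr]
    simp only [zf, zd, g, gf]
    rcases eq_or_ne (i : ℕ) 0 with h0 | h0
    · simp [h0, fpol]
    rcases le_or_gt (i : ℕ) m with h1 | h1
    · simp [h0, h1, show (i : ℕ) ≠ m + 1 by omega, show (i : ℕ) ≠ m + 2 by omega,
        show (i : ℕ) ≠ m + 3 by omega]
    rcases eq_or_ne (i : ℕ) (m + 1) with h2 | h2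
    · simp [h2]; ring
    rcases eq_or_ne (i : ℕ) (m + 2) with h3 | h3
    · simp [h3]; ring
    simp [show (i : ℕ) = m + 3 by omega]; ring
  have hvg : ∀ i : Fin (m + 4), ((jm F (m + 4) * zmat m μ δ s r ρ).map Polynomial.C *ᵥ g) i =
      zf i + if (i : ℕ) + 1 < m + 4 then zf ((i : ℕ) + 1) else 0 := by
    intro i
    rw [Matrix.map_mul, ← Matrix.mulVec_mulVec, jm_map, jm_mulVec, hzg]
    congr 1
    split_ifs with h
    · rw [ev_lt _ h, hzg]
    · rw [ev_ge _ (by omega)]
  have hCh : (jm F (m + 4) * zmat m μ δ s r ρ).charmatrix *ᵥ g =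
      Pi.single (last (by omega : 0 < m + 4)) (Polynomial.C μ * (Polynomial.X - 1) ^ (m + 4)) := by
    funext i
    have : (jm F (m + 4) * zmat m μ δ s r ρ).charmatrix *ᵥ g =
        fun i => Polynomial.X * g i - ((jm F (m + 4) * zmat m μ δ s r ρ).map Polynomial.C *ᵥ g) i := by
      funext i
      rw [Matrix.charmatrix, Matrix.sub_mulVec, Pi.sub_apply, Matrix.scalar_apply,
        Matrix.mulVec_diagonal]
      rfl
    rw [this]
    simp only
    rw [hvg]
    simp only [zf, g, gf]
    have hXm : ∀ j, (fpol μ (j + 1) : F[X]) = (Polynomial.X - Polynomial.C μ) * (Polynomial.X - 1) ^ j :=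
      fun j => rfl
    rcases le_or_gt (i : ℕ) m with h1 | h1
    · rw [Pi.single_eq_of_ne (Fin.ne_of_val_ne (by simp [last]; omega)), if_pos h1,
        if_pos (show (i : ℕ) + 1 < m + 4 by omega), if_neg (show (i : ℕ) + 1 ≠ 0 by omega)]
      have hnext : (if (i : ℕ) + 1 ≤ m then fpol μ ((i : ℕ) + 1)
          else if (i : ℕ) + 1 = m + 1 then Polynomial.C r * fpol μ m + Polynomial.C δ * A1
          else if (i : ℕ) + 1 = m + 2 then Sρ + Polynomial.C δ * A2 else Polynomial.C s + Polynomial.C μ * A3)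
          = fpol μ ((i : ℕ) + 1) := by
        rcases lt_or_eq_of_le h1 with h | h
        · rw [if_pos (show (i : ℕ) + 1 ≤ m by omega)]
        · rw [if_neg (show ¬ (i : ℕ) + 1 ≤ m by omega), if_pos (show (i : ℕ) + 1 = m + 1 by omega), h, hA1,
            ← mul_assoc (Polynomial.C δ), ← map_mul, mul_comm δ μ, hμδ, map_one, one_mul]
          ring
      rw [hnext]
      rcases Nat.eq_zero_or_pos (i : ℕ) with h0 | h0
      · rw [h0, if_pos rfl, hXm]; simp [fpol]
      · obtain ⟨j, hj⟩ : ∃ j, (i : ℕ) = j + 1 := ⟨(i : ℕ) - 1, by omega⟩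
        rw [if_neg (show ¬ (i : ℕ) = 0 by omega), if_pos h1, hj, hXm, hXm, pow_succ]
        ring
    have e1 : (Polynomial.C δ : F[X]) * Polynomial.C μ = 1 := by
      rw [← map_mul, mul_comm δ μ, hμδ, map_one]
    rcases eq_or_ne (i : ℕ) (m + 1) with h2 | h2
    · rw [Pi.single_eq_of_ne (Fin.ne_of_val_ne (by simp [last]; omega)), h2]
      simp
      rw [hA2]
      linear_combination -(((Polynomial.X - Polynomial.C δ) * A1 - Polynomial.C r * fpol μ m - Sρ)) * e1
    rcases eq_or_ne (i : ℕ) (m + 2) with h3 | h3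
    · rw [Pi.single_eq_of_ne (Fin.ne_of_val_ne (by simp [last]; omega)), h3]
      simp
      rw [hA3]
      linear_combination -(((Polynomial.X - Polynomial.C δ) * A2 - Sρ - Polynomial.C s)) * e1
    have h4 : (i : ℕ) = m + 3 := by omega
    rw [show i = last (by omega : 0 < m + 4) from Fin.ext (by simp [last]; omega), Pi.single_eq_same]
    simp [last]
    rw [← hQ, hA3, hA2, hA1]
    ring
  have hadj := congrArg (fun x => (jm F (m + 4) * zmat m μ δ s r ρ).charmatrix.adjugate *ᵥ x) hCh
  simp only [Matrix.mulVec_mulVec, Matrix.adjugate_mul, Matrix.smul_mulVec, Matrix.one_mulVec,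
    Matrix.mulVec_single] at hadj
  have h0 := congrFun hadj ⟨0, by omega⟩
  simp [g, gf, fpol] at h0
  have hdvd : (Polynomial.X - 1) ^ (m + 4) ∣ (jm F (m + 4) * zmat m μ δ s r ρ).charpoly := by
    rw [Matrix.charpoly, h0]
    exact (dvd_mul_left _ _).mul_left _
  have hm1 : ((Polynomial.X : F[X]) - 1).Monic := by simpa using Polynomial.monic_X_sub_C (1 : F)
  refine (Polynomial.eq_of_monic_of_dvd_of_natDegree_le (hm1.pow _)
    (Matrix.charpoly_monic _) hdvd ?_)
  rw [Matrix.charpoly_natDegree_eq_dim, Fintype.card_fin, Polynomial.natDegree_pow,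
    show ((Polynomial.X : F[X]) - 1) = Polynomial.X - Polynomial.C 1 by rw [map_one],
    Polynomial.natDegree_X_sub_C, mul_one]

end Construction

/-- Two regular unipotent elements generate `SL_n(F)` when `|F|` is not prime. -/
theorem exists_two [Fintype F] (m : ℕ) (hF : ¬ (Fintype.card F).Prime) :
    ∃ v : Matrix.SpecialLinearGroup (Fin (m + 4)) F,
      IsNilpotent (v.1 - 1) ∧ (v.1 - 1) ^ (m + 4 - 1) ≠ 0 ∧
      Subgroup.closure ({J, v} : Set (Matrix.SpecialLinearGroup (Fin (m + 4)) F)) = ⊤ := by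
  classical
  obtain ⟨γ, hγ⟩ := IsCyclic.exists_generator (α := Fˣ)
  set μ : F := (γ : F) with hμd
  have hμ : μ ≠ 0 := γ.ne_zero
  have hgen : ∀ w : F, w ≠ 0 → ∃ k : ℕ, μ ^ k = w := by
    intro w hw
    obtain ⟨k, hk⟩ := mem_powers_iff_mem_zpowers.mpr (hγ (Units.mk0 w hw))
    exact ⟨k, by rw [hμd, ← Units.val_pow_eq_pow_val]; exact congrArg Units.val hk⟩
  obtain ⟨p, hp⟩ := CharP.exists F
  obtain ⟨e, hpp, he⟩ := FiniteField.card F p
  have hcard : 4 ≤ Fintype.card F := by
    have h1 : 1 < (e : ℕ) := by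
      rcases Nat.lt_or_ge 1 (e : ℕ) with h | h
      · exact h
      · exact absurd (by rw [he, show (e : ℕ) = 1 from le_antisymm h e.2, pow_one]; exact hpp) hF
    rw [he]
    calc 4 = 2 ^ 2 := rfl
      _ ≤ p ^ 2 := Nat.pow_le_pow_left hpp.two_le 2
      _ ≤ p ^ (e : ℕ) := Nat.pow_le_pow_right hpp.pos h1
  have hord : orderOf μ = Fintype.card F - 1 := by
    rw [hμd, orderOf_units, orderOf_eq_card_of_forall_mem_zpowers hγ, Nat.card_units,
      Nat.card_eq_fintype_card]
  have hμ1 : μ ≠ 1 := fun h => by rw [h, orderOf_one] at hord; omega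
  have hμ2 : μ * μ ≠ 1 := fun h => by
    have := orderOf_dvd_of_pow_eq_one (x := μ) (n := 2) (by rw [pow_two, h])
    have := Nat.le_of_dvd two_pos this
    omega
  have hμ3 : μ ≠ 3 := fun h => by
    have h1 : orderOf μ ∣ p - 1 ∨ μ = 0 := by
      by_cases h0 : μ = 0
      · exact Or.inr h0
      left
      refine orderOf_dvd_of_pow_eq_one ?_
      have : Fact p.Prime := ⟨hpp⟩
      have h3 : μ = ((3 : ZMod p).cast : F) := by
        rw [h]; exact (map_ofNat (ZMod.castHom (dvd_refl p) F) 3).symm
      have h4 : (3 : ZMod p) ≠ 0 := fun h4 => h0 (by rw [h3, h4]; exact ZMod.cast_zero)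
      rw [h3, show ((3 : ZMod p).cast : F) = ZMod.castHom (dvd_refl p) F 3 from rfl, ← map_pow,
        ZMod.pow_card_sub_one_eq_one h4, map_one]
    rcases h1 with h1 | h1
    · have h2 := Nat.le_of_dvd (by have := hpp.two_le; omega) h1
      have h3 : p < Fintype.card F := by
        rw [he]
        exact lt_self_pow₀ hpp.one_lt (by
          by_contra h5
          exact hF (by rw [he, show (e : ℕ) = 1 from le_antisymm (not_lt.mp h5) e.2, pow_one]; exact hpp))
      have := hpp.two_le
      omega
    · exact hμ h1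
  set δ : F := μ⁻¹ with hδd
  have hμδ : μ * δ = 1 := mul_inv_cancel₀ hμ
  have hδ : δ ≠ 0 := inv_ne_zero hμ
  have hδ1 : δ ≠ 1 := fun h => hμ1 (by rw [h, mul_one] at hμδ; exact hμδ)
  have hδμ : δ ≠ μ := fun h => hμ2 (by rw [h] at hμδ; exact hμδ)
  obtain ⟨s, r, ρ, hQ, hs, hr⟩ := exists_params m μ δ hμδ hμ1
  set z : Matrix.SpecialLinearGroup (Fin (m + 4)) F := ⟨zmat m μ δ s r ρ, zmat_det hμδ⟩ with hzd
  refine ⟨J * z, isNilpotent_sub_one ?_, pow_ne_zero_of_hessenberg ?_ ?_ (by omega), ?_⟩
  · rw [Matrix.SpecialLinearGroup.coe_mul]; exact charpoly_twist hμ hμδ hQ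
  · intro i j hij
    rw [Matrix.sub_apply, Matrix.one_apply_ne (Fin.ne_of_val_ne (by omega)), sub_zero,
      Matrix.SpecialLinearGroup.coe_mul, J_coe]
    have h1 : (jm F (m + 4) *ᵥ fun a => zmat m μ δ s r ρ a j) i = 0 := by
      rw [jm_mulVec, zmat_upper i j (by omega), zero_add]
      by_cases h : (i : ℕ) + 1 < m + 4
      · rw [ev_lt _ h]; exact zmat_upper _ j (by simp only; omega)
      · rw [ev_ge _ (by omega)]
    exact h1
  · intro i j hij
    rw [Matrix.sub_apply, Matrix.one_apply_ne (Fin.ne_of_val_ne (by omega)), sub_zero,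
      Matrix.SpecialLinearGroup.coe_mul, J_coe]
    have h1 : (jm F (m + 4) *ᵥ fun a => zmat m μ δ s r ρ a j) i = zd m μ δ j := by
      rw [jm_mulVec, zmat_upper i j (by omega), zero_add, ev_lt _ (show (i : ℕ) + 1 < m + 4 by omega),
        show (⟨(i : ℕ) + 1, _⟩ : Fin (m + 4)) = j from Fin.ext hij.symm, zmat_diag]
    change (jm F (m + 4) *ᵥ fun a => zmat m μ δ s r ρ a j) i ≠ 0
    rw [h1]
    simp only [zd]
    split_ifs <;> first | exact hμ | exact hδ | exact one_ne_zero
  · set G := Subgroup.closure ({J, J * z} : Set (Matrix.SpecialLinearGroup (Fin (m + 4)) F))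
    have hJ : J ∈ G := Subgroup.subset_closure (by simp)
    have hz : z ∈ G := by
      have : z = J⁻¹ * (J * z) := by group
      rw [this]
      exact mul_mem (inv_mem hJ) (Subgroup.subset_closure (by simp))
    have hL0 : last (by omega : 0 < m + 4) ≠ (⟨0, by omega⟩ : Fin (m + 4)) :=
      Fin.ne_of_val_ne (by simp [last])
    have hx : In G ((-(s / μ)) • Pi.single (last (by omega : 0 < m + 4)) 1)
        (Pi.single (⟨0, by omega⟩ : Fin (m + 4)) 1) := by
      refine ⟨by rw [single_dotProduct, one_mul, Pi.smul_apply, Pi.single_eq_of_ne hL0.symm, smul_zero], z ^ (Fintype.card F - 1), pow_mem hz _, ?_⟩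
      rw [Matrix.SpecialLinearGroup.coe_pow, hzd, zmat_pow hμ hδ hδ1 hδμ, tv,
        Matrix.smul_vecMulVec]
      congr 2
      ext i j
      simp only [ze, Matrix.of_apply, Matrix.vecMulVec_apply, Pi.single_apply]
      by_cases hi : (i : ℕ) = m + 3
      · rw [if_pos (show i = last (by omega : 0 < m + 4) from Fin.ext (by simp [last]; omega))]
        by_cases hj : (j : ℕ) = 0
        · rw [if_pos ⟨hi, hj⟩, if_pos (show j = (⟨0, by omega⟩ : Fin (m + 4)) from Fin.ext hj), one_mul]
        · rw [if_neg (fun h => hj h.2), if_neg (fun h => hj (congrArg Fin.val h)), mul_zero]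
      · rw [if_neg (fun h => hi h.1),
          if_neg (fun h => hi (by rw [h]; simp [last])), zero_mul]
    have hzL : z.1 *ᵥ (Pi.single (last (by omega : 0 < m + 4)) 1 : Fin (m + 4) → F) =
        μ • Pi.single (last (by omega : 0 < m + 4)) 1 := by
      funext i
      rw [Matrix.mulVec_single_one, Matrix.col_apply, hzd, Pi.smul_apply, smul_eq_mul,
        Pi.single_apply]
      rcases eq_or_ne i (last (by omega : 0 < m + 4)) with rfl | h
      · simp [zmat_diag, zd, last]
      · have : (i : ℕ) < m + 3 := by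
          have := Fin.val_ne_of_ne h
          simp [last] at this
          omega
        rw [if_neg h, mul_zero]
        exact zmat_upper _ _ (by simp [last]; omega)
    have hz0 : (Pi.single (⟨0, by omega⟩ : Fin (m + 4)) 1 : Fin (m + 4) → F) ᵥ* z.1 =
        μ • Pi.single (⟨0, by omega⟩ : Fin (m + 4)) 1 := by
      funext j
      rw [Matrix.single_one_vecMul, Matrix.row_apply, hzd, Pi.smul_apply, smul_eq_mul,
        Pi.single_apply]
      rcases eq_or_ne j (⟨0, by omega⟩ : Fin (m + 4)) with rfl | h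
      · simp [zmat_diag, zd]
      · rw [if_neg h, mul_zero]
        have h' : (j : ℕ) ≠ 0 := fun e => h (Fin.ext e)
        exact zmat_upper _ _ (by simp only; omega)
    set α : F := if m = 0 then δ else 1 with hαd
    set β : F := if m = 0 then r else 0 with hβd
    have hz1 : (Pi.single (⟨1, by omega⟩ : Fin (m + 4)) 1 : Fin (m + 4) → F) ᵥ* z.1 =
        α • Pi.single (⟨1, by omega⟩ : Fin (m + 4)) 1 + β • Pi.single (⟨0, by omega⟩ : Fin (m + 4)) 1 := by
      funext j
      rw [Matrix.single_one_vecMul, Matrix.row_apply, hzd, Pi.add_apply, Pi.smul_apply, Pi.smul_apply,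
        smul_eq_mul, smul_eq_mul, Pi.single_apply, Pi.single_apply]
      simp only [zmat, Matrix.add_apply, Matrix.smul_apply, zr, ze, Matrix.of_apply, Fin.ext_iff,
        Matrix.diagonal_apply, zd, hαd, hβd, smul_eq_mul]
      by_cases hm : m = 0
      · subst hm
        simp only [one_ne_zero, false_or, zero_add, true_and, true_or, if_true]
        split_ifs <;> first | (exfalso; omega) | simp
      · simp only [one_ne_zero, false_or]
        split_ifs <;> first | (exfalso; omega) | simp
    have hα : α ≠ 0 := by rw [hαd]; split_ifs <;> [exact hδ; exact one_ne_zero]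
    refine top_of_highest (by omega) hJ (highest_of_twist (by omega) hJ hz hμ hα hzL hz0 hz1 ?_ ?_
      (neg_ne_zero.mpr (div_ne_zero hs hμ)) hx)
    · intro w hw
      obtain ⟨k, hk⟩ := hgen w hw
      rw [hαd]
      split_ifs with hm
      · refine ⟨k, ?_⟩
        rw [hδd, div_inv_eq_mul, mul_pow, hk]
      · exact ⟨2 * k, by rw [div_one, pow_mul', hk, pow_two]⟩
    · rw [hαd, hβd]
      split_ifs with hm
      · rw [hr hm, hδd]
        intro h
        field_simp at h
        have : (μ - 1) * (μ - 3) = 0 := by linear_combination h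
        rcases mul_eq_zero.mp this with h' | h'
        · exact hμ1 (sub_eq_zero.mp h')
        · exact hμ3 (sub_eq_zero.mp h')
      · rw [div_one, neg_zero, zero_div, add_zero, sub_ne_zero]
        exact Ne.symm hμ1

end Cfsg.Agent.Small.Generation.TwoUnip
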